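import Cfsg.Agent.Coset.Prim

set_option autoImplicit false
set_option maxRecDepth 100000

/-! Certificates for lifting the centraliser to a stem extension. -/

namespace CfsgLib.J3Local.Cover

def perfWords : List (List Nat × List Nat) := [([2, 3, 1, 2, 1, 2, 1, 3, 2, 2, 0, 2, 2, 3, 1, 2, 1, 2, 1, 3, 2], [2, 0, 2, 2, 3, 1, 2, 1, 2, 1, 3, 2, 2, 0, 2]), ([1, 0, 3, 1, 3, 0, 1, 2, 3, 1, 2, 1, 2, 1, 3, 2, 2, 0, 2, 1, 0, 3, 1, 3, 0, 1, 2, 3, 1, 2, 1, 2, 1, 3, 2, 1, 0, 3, 1, 3, 0, 1, 2, 3, 1, 2, 1, 2, 1, 3, 2], [2, 3, 1, 2, 1, 2, 1, 3, 2, 2, 0, 2, 2, 3, 1, 2, 1, 2, 1, 3, 2, 2, 0, 2, 2, 3, 1, 2, 1, 2, 1, 3, 2, 1, 0, 3, 1, 3, 0, 1]), ([2, 3, 1, 2, 1, 2, 1, 3, 2, 2, 0, 2, 1, 0, 3, 1, 3, 0, 1, 2, 3, 1,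 2, 1, 2, 1, 3, 2, 1, 0, 3, 1, 3, 0, 1, 2, 3, 1, 2, 1, 2, 1, 3, 2, 1, 0, 3, 1, 3, 0, 1], [2, 0, 2, 2, 3, 1, 2, 1, 2, 1, 3, 2, 1, 0, 3, 1, 3, 0, 1, 2, 3, 1, 2, 1, 2, 1, 3, 2, 2, 0, 2, 1, 0, 3, 1, 3, 0, 1, 2, 3, 1, 2, 1, 2, 1, 3, 2, 2, 0, 2]), ([2, 0, 2, 1, 0, 3, 1, 3, 0, 1, 2, 3, 1, 2, 1, 2, 1, 3, 2, 2, 0, 2, 2, 3, 1, 2, 1, 2, 1, 3, 2, 2, 0, 2, 1, 0, 3, 1, 3, 0, 1, 2, 3, 1, 2, 1, 2, 1, 3, 2, 2, 0, 2, 2, 3, 1, 2, 1, 2, 1, 3, 2, 2, 0, 2], [2, 0, 2, 1, 0, 3, 1, 3, 0, 1, 2, 3, 1, 2, 1, 2, 1, 3, 2, 1, 0, 3, 1, 3, 0, 1, 2, 3, 1, 2, 1, 2, 1, 3, 2])]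

def q1 : List Nat := [2, 0, 2]

def q2 : List Nat := [1, 2, 0, 2, 0, 1, 0, 2, 1, 2]

def genConj : List (List Nat) := [[], [0, 1], [1, 3, 0, 3, 2, 3, 2, 0, 1], [0, 1, 0, 3, 0, 1, 0, 3, 1]]

end CfsgLib.J3Local.Cover
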