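import Cfsg.Agent.Coset.Prim

set_option autoImplicit false
set_option maxRecDepth 100000

/-! Relators holding for involutive lifts in a stem extension. -/

namespace CfsgLib.J3Local.Cover

/-- The conjugations. -/
def covData : List (List Nat × Nat × List Nat × Nat) := [
  ([0], 1, [1], 0),
  ([0, 2], 0, [2], 0),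
  ([1, 3], 1, [3], 1),
  ([1, 2, 1], 2, [2, 1], 2),
  ([2, 0, 1], 2, [0, 1], 2),
  ([2, 1, 0], 3, [1, 0], 3),
  ([1, 0, 1, 0], 2, [0, 1], 2),
  ([1, 0, 1, 0], 3, [0, 1], 3),
  ([0, 1, 0, 3], 1, [1, 0, 3], 1),
  ([1, 0, 1, 2], 0, [0, 1, 2], 0),
  ([2, 0, 1, 0], 3, [0, 1, 0], 3),
  ([2, 0, 2, 1], 2, [0, 2, 1], 2),
  ([2, 1, 0, 2], 3, [1, 0, 2], 3),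
  ([2, 1, 0, 3], 2, [1, 0, 3], 2),
  ([3, 0, 3, 1], 2, [2, 3, 2], 1),
  ([0, 2, 0, 2, 0], 3, [2, 0, 2], 3),
  ([0, 2, 0, 2, 1], 0, [2, 0, 2], 1),
  ([1, 0, 1, 0, 2], 1, [0, 1, 2], 1),
  ([1, 0, 1, 0, 2], 3, [0, 1, 2], 3),
  ([1, 0, 1, 0, 3], 0, [0, 1, 3], 0),
  ([1, 0, 1, 0, 3], 2, [0, 1, 3], 2),
  ([1, 2, 1, 2], 3, [2, 3, 2, 1], 2),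
  ([1, 3, 0, 2, 0], 3, [3, 2, 1], 3),
  ([1, 3, 1, 3], 0, [3, 1, 3, 1], 0),
  ([1, 3, 1, 3, 1], 2, [3, 1, 3], 2),
  ([0, 1, 0, 2, 1], 2, [1, 0, 2, 1], 2),
  ([0, 1, 0, 3, 1], 0, [3, 0, 1, 0], 3),
  ([0, 2, 1, 0, 3], 1, [2, 1, 0, 3], 1),
  ([0, 2, 3, 1, 2], 1, [2, 3, 1, 2], 1),
  ([1, 0, 1, 3, 1], 0, [3, 0, 1, 0], 3),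
  ([2, 0, 1, 2, 0], 3, [0, 1, 2, 0], 3),
  ([2, 1, 0, 2, 1], 2, [3, 1, 3, 1], 2),
  ([2, 1, 0, 2, 1], 3, [1, 0, 2, 1], 3),
  ([2, 1, 0, 2, 3], 2, [1, 0, 2, 3], 2),
  ([2, 1, 0, 3, 2], 3, [1, 0, 3, 2], 3),
  ([2, 3, 2, 3, 2], 3, [3, 2, 3, 2], 3),
  ([0, 1, 2, 1, 2], 0, [2, 0, 1, 2, 1], 0),
  ([0, 2, 0, 1, 0, 2], 1, [2, 1, 2, 3], 1),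
  ([0, 2, 0, 2, 0, 1], 3, [2, 0, 2, 1], 3),
  ([0, 2, 0, 2, 0, 3], 0, [2, 0, 2, 3], 0),
  ([0, 2, 0, 2, 0, 3], 1, [2, 0, 2, 3], 1),
  ([0, 2, 0, 2, 0, 3], 2, [2, 0, 2, 3], 2),
  ([0, 3, 1, 3, 0, 2], 1, [3, 2, 3, 2], 3),
  ([1, 0, 1, 0, 2, 0], 3, [0, 1, 2, 0], 3),
  ([1, 0, 1, 0, 2, 1], 0, [0, 1, 2, 1], 0),
  ([1, 0, 1, 0, 2, 1], 3, [0, 1, 2, 1], 3),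
  ([1, 0, 1, 0, 2, 3], 0, [0, 1, 2, 3], 0),
  ([1, 0, 1, 0, 2, 3], 1, [0, 1, 2, 3], 1),
  ([1, 0, 1, 0, 2, 3], 2, [0, 1, 2, 3], 2),
  ([1, 0, 1, 0, 3, 0], 2, [0, 1, 3, 0], 2),
  ([1, 0, 1, 0, 3, 0], 3, [0, 1, 3, 0], 3),
  ([1, 0, 1, 0, 3, 1], 2, [0, 1, 3, 1], 2),
  ([1, 0, 1, 0, 3, 2], 0, [0, 1, 3, 2], 0),
  ([1, 0, 1, 0, 3, 2], 1, [0, 1, 3, 2], 1),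
  ([1, 0, 1, 0, 3, 2], 3, [0, 1, 3, 2], 3),
  ([1, 0, 2, 0, 1, 2], 0, [2, 1, 0, 2], 1),
  ([1, 0, 3, 0, 1, 2], 0, [2, 1, 0, 3], 1),
  ([1, 2, 1, 2, 1], 3, [2, 1, 3, 2, 1], 2),
  ([1, 3, 1, 0, 2, 0], 3, [3, 1, 2, 1], 3),
  ([1, 3, 1, 3, 0], 2, [3, 1, 3, 1, 0], 2),
  ([1, 3, 1, 3, 0], 3, [3, 1, 3, 1, 0], 3),
  ([1, 3, 1, 3, 1, 2], 0, [3, 1, 3, 2], 0),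
  ([1, 3, 1, 3, 1, 2], 1, [3, 1, 3, 2], 1),
  ([1, 3, 1, 3, 1, 2], 3, [3, 1, 3, 2], 3),
  ([2, 0, 1, 2, 3], 1, [0, 2, 1, 0, 2], 1),
  ([2, 0, 3, 1, 0, 2], 1, [0, 3, 1, 2], 3),
  ([3, 0, 1, 2, 0, 3], 1, [1, 3, 0, 3], 1),
  ([0, 1, 0, 2, 0, 3], 1, [2, 0, 2, 1, 2], 0),
  ([0, 1, 0, 2, 3, 1], 0, [3, 0, 1, 0, 2], 3),
  ([0, 1, 2, 0, 1, 0], 2, [2, 0, 3, 1, 3], 2),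
  ([0, 1, 2, 0, 3, 1], 0, [3, 0, 1, 2, 0], 3),
  ([0, 1, 2, 1, 0, 3], 0, [3, 0, 1, 2, 1], 0),
  ([0, 2, 0, 3, 1, 2], 1, [2, 0, 3, 1, 2], 1),
  ([0, 2, 0, 3, 2, 3], 2, [2, 3, 1, 2, 3], 2),
  ([0, 2, 1, 0, 2, 1], 0, [3, 2, 3, 1, 0], 2),
  ([0, 2, 1, 2, 0, 1], 3, [3, 2, 3, 2, 1], 3),
  ([0, 3, 0, 3, 0, 3], 2, [3, 2, 3, 0, 3], 0),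
  ([0, 3, 2, 1, 2, 0], 3, [3, 2, 3, 2, 3], 1),
  ([1, 0, 1, 2, 0, 3], 1, [2, 0, 2, 1, 2], 0),
  ([1, 0, 1, 2, 3, 1], 0, [3, 0, 1, 0, 2], 3),
  ([1, 0, 2, 0, 1, 2], 1, [2, 1, 0, 2, 1], 0),
  ([1, 0, 2, 0, 1, 2], 3, [3, 2, 3, 0, 2], 1),
  ([1, 0, 2, 1, 2, 0], 3, [2, 1, 2, 0, 1], 3),
  ([1, 0, 3, 0, 1, 2], 1, [2, 1, 0, 3, 1], 0),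
  ([1, 0, 3, 0, 2, 1], 2, [2, 1, 0, 3, 0], 2),
  ([1, 2, 0, 1, 3, 2], 1, [3, 1, 3, 2, 3], 0),
  ([1, 2, 1, 2, 3, 2], 0, [2, 1, 2, 3, 2], 0),
  ([1, 2, 3, 0, 3, 0], 2, [3, 0, 2, 0, 3], 1),
  ([1, 2, 3, 1, 0, 2], 3, [3, 2, 3, 0, 3], 1),
  ([1, 2, 3, 1, 3, 0], 3, [2, 3, 1, 3, 2], 3),
  ([1, 3, 0, 1, 3, 1], 0, [3, 1, 3, 0, 1], 3),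
  ([1, 3, 1, 2, 3, 2], 3, [3, 2, 1, 3, 1], 2),
  ([1, 3, 1, 3, 2, 1], 2, [3, 1, 3, 2, 1], 2),
  ([2, 0, 1, 0, 2, 0], 3, [1, 2, 0, 2, 1], 3),
  ([2, 0, 1, 0, 2, 3], 1, [3, 1, 3, 2, 1], 0),
  ([2, 0, 1, 0, 3, 0], 2, [0, 1, 0, 3, 0], 2),
  ([2, 0, 1, 0, 3, 1], 2, [0, 1, 0, 3, 1], 2),
  ([2, 0, 1, 2, 0, 1], 3, [0, 1, 2, 0, 1], 3),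
  ([2, 0, 2, 0, 1, 0], 2, [0, 2, 0, 1, 0], 2),
  ([2, 0, 2, 0, 1, 2], 0, [1, 0, 2, 0, 3], 1),
  ([2, 0, 2, 0, 1, 2], 1, [0, 2, 0, 1, 2], 1),
  ([2, 0, 2, 1, 2, 0], 3, [0, 2, 1, 2, 0], 3),
  ([2, 0, 2, 3, 2, 3], 2, [0, 3, 1, 2, 3], 2),
  ([2, 1, 0, 2, 0, 1], 3, [3, 2, 3, 0, 2], 1),
  ([2, 1, 0, 2, 3, 2], 3, [1, 0, 2, 3, 2], 3),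
  ([2, 1, 0, 3, 0, 2], 1, [1, 0, 3, 0, 2], 1),
  ([2, 1, 0, 3, 1, 0], 2, [1, 0, 3, 1, 0], 2),
  ([2, 1, 0, 3, 2, 1], 3, [1, 0, 3, 2, 1], 3),
  ([2, 1, 0, 3, 2, 3], 2, [1, 0, 3, 2, 3], 2),
  ([2, 1, 2, 0, 2, 1], 0, [1, 2, 0, 2, 1], 0),
  ([2, 1, 2, 1, 2, 0], 3, [1, 2, 1, 2, 0], 3),
  ([2, 1, 2, 3, 1, 3], 2, [1, 2, 3, 1, 3], 2),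
  ([2, 3, 1, 3, 1, 2], 0, [3, 1, 3, 1, 2], 0),
  ([2, 3, 2, 3, 2, 1], 3, [3, 2, 3, 2, 1], 3),
  ([3, 0, 2, 1, 3, 1], 0, [1, 3, 2, 3, 0], 3),
  ([3, 0, 3, 0, 3, 0], 2, [2, 3, 0, 2, 3], 2),
  ([3, 0, 3, 0, 3, 2], 0, [2, 0, 2, 3, 0], 3),
  ([3, 0, 3, 2, 3, 1], 0, [1, 2, 0, 3, 0], 3),
  ([3, 1, 2, 1, 3, 1], 2, [1, 3, 2, 3, 2], 3),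
  ([3, 1, 2, 3, 0, 2], 1, [2, 1, 2, 0, 1], 3),
  ([3, 1, 3, 0, 2, 3], 1, [2, 1, 2, 1, 2], 0),
  ([3, 1, 3, 1, 0, 3], 1, [2, 0, 2, 1, 2], 0),
  ([3, 1, 3, 1, 2, 3], 0, [2, 0, 1, 3, 2], 1),
  ([0, 1, 0, 2, 1, 2], 0, [1, 2, 0, 1, 2, 1], 0),
  ([0, 1, 0, 2, 1, 2], 3, [1, 0, 2, 3, 2, 1], 2),
  ([0, 1, 0, 3, 0, 2, 0], 3, [1, 0, 3, 2, 1], 3),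
  ([0, 1, 0, 3, 1, 3], 0, [1, 0, 3, 1, 3, 1], 0),
  ([0, 1, 0, 3, 1, 3, 1], 2, [1, 0, 3, 1, 3], 2),
  ([0, 1, 2, 0, 1, 2], 3, [3, 1, 3, 2, 0, 2], 3),
  ([0, 1, 2, 1, 0, 2, 0], 3, [2, 0, 1, 2, 1], 3),
  ([0, 1, 2, 1, 0, 3, 0], 3, [3, 0, 1, 2, 1], 3),
  ([0, 1, 2, 1, 3, 1], 2, [2, 3, 2, 3, 2, 3], 1),
  ([0, 1, 2, 3, 1, 3, 2], 0, [2, 1, 2, 0, 2], 1),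
  ([0, 1, 2, 3, 1, 3], 2, [2, 1, 0, 3, 1, 3], 2),
  ([0, 1, 2, 3, 2, 1], 3, [2, 0, 3, 1, 2, 1], 3),
  ([0, 1, 3, 1, 2, 3, 1], 2, [2, 3, 0, 3, 0], 3),
  ([0, 2, 0, 1, 3, 2, 3], 0, [2, 3, 1, 0, 2], 3),
  ([0, 2, 0, 2, 0, 1, 2], 0, [2, 0, 2, 1, 2], 0),
  ([0, 2, 0, 2, 0, 1, 2], 3, [2, 0, 2, 1, 2], 3),
  ([0, 2, 0, 2, 0, 1, 3], 0, [2, 0, 2, 1, 3], 0),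
  ([0, 2, 0, 2, 0, 1, 3], 2, [2, 0, 2, 1, 3], 2),
  ([0, 2, 0, 2, 0, 3, 0], 2, [2, 0, 2, 3, 0], 2),
  ([0, 2, 0, 2, 0, 3, 0], 3, [2, 0, 2, 3, 0], 3),
  ([0, 2, 0, 2, 0, 3, 1], 0, [2, 0, 2, 3, 1], 0),
  ([0, 2, 0, 2, 0, 3, 1], 2, [2, 0, 2, 3, 1], 2),
  ([0, 2, 0, 2, 0, 3, 2], 0, [2, 0, 2, 3, 2], 0),
  ([0, 2, 0, 2, 0, 3, 2], 1, [2, 0, 2, 3, 2], 1),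
  ([0, 2, 0, 2, 0, 3, 2], 3, [2, 0, 2, 3, 2], 3),
  ([0, 2, 0, 2, 1, 2, 1], 0, [2, 1, 2, 1, 2], 0),
  ([0, 2, 0, 3, 1, 2, 3], 0, [2, 3, 0, 3, 2], 3),
  ([0, 2, 1, 2, 0, 1, 2], 1, [3, 1, 2, 3, 2], 3),
  ([0, 2, 1, 2, 0, 2], 3, [2, 3, 2, 1, 3, 0], 2),
  ([0, 2, 1, 3, 1, 0, 3], 0, [3, 1, 0, 3, 2], 3),
  ([0, 3, 0, 2, 0, 1, 2], 0, [3, 1, 2, 3, 1], 2),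
  ([1, 0, 1, 0, 2, 0, 1], 3, [0, 1, 2, 0, 1], 3),
  ([1, 0, 1, 0, 2, 0, 3], 0, [0, 1, 2, 0, 3], 0),
  ([1, 0, 1, 0, 2, 0, 3], 2, [0, 1, 2, 0, 3], 2),
  ([1, 0, 1, 0, 2, 1, 3], 0, [0, 1, 2, 1, 3], 0),
  ([1, 0, 1, 0, 2, 1, 3], 2, [0, 1, 2, 1, 3], 2),
  ([1, 0, 1, 0, 2, 3, 0], 2, [0, 1, 2, 3, 0], 2),
  ([1, 0, 1, 0, 2, 3, 0], 3, [0, 1, 2, 3, 0], 3),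
  ([1, 0, 1, 0, 2, 3, 1], 2, [0, 1, 2, 3, 1], 2),
  ([1, 0, 1, 0, 2, 3, 2], 0, [0, 1, 2, 3, 2], 0),
  ([1, 0, 1, 0, 2, 3, 2], 1, [0, 1, 2, 3, 2], 1),
  ([1, 0, 1, 0, 2, 3, 2], 3, [0, 1, 2, 3, 2], 3),
  ([1, 0, 1, 0, 3, 0, 1], 3, [0, 1, 3, 0, 1], 3),
  ([1, 0, 1, 0, 3, 0, 2], 1, [0, 1, 3, 0, 2], 1),
  ([1, 0, 1, 0, 3, 0, 2], 3, [0, 1, 3, 0, 2], 3),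
  ([1, 0, 1, 0, 3, 0, 3], 0, [0, 1, 3, 0, 3], 0),
  ([1, 0, 1, 0, 3, 0, 3], 1, [0, 1, 3, 0, 3], 1),
  ([1, 0, 1, 0, 3, 0, 3], 2, [0, 1, 3, 0, 3], 2),
  ([1, 0, 1, 0, 3, 1, 0], 2, [0, 1, 3, 1, 0], 2),
  ([1, 0, 1, 0, 3, 1, 0], 3, [0, 1, 3, 1, 0], 3),
  ([1, 0, 1, 0, 3, 1, 2], 0, [0, 1, 3, 1, 2], 0),
  ([1, 0, 1, 0, 3, 1, 2], 1, [0, 1, 3, 1, 2], 1),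
  ([1, 0, 1, 0, 3, 1, 2], 3, [0, 1, 3, 1, 2], 3),
  ([1, 0, 1, 0, 3, 2, 0], 3, [0, 1, 3, 2, 0], 3),
  ([1, 0, 1, 0, 3, 2, 1], 0, [0, 1, 3, 2, 1], 0),
  ([1, 0, 1, 0, 3, 2, 1], 2, [0, 1, 3, 2, 1], 2),
  ([1, 0, 1, 0, 3, 2, 3], 0, [0, 1, 3, 2, 3], 0),
  ([1, 0, 1, 0, 3, 2, 3], 1, [0, 1, 3, 2, 3], 1),
  ([1, 0, 1, 0, 3, 2, 3], 2, [0, 1, 3, 2, 3], 2),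
  ([1, 0, 1, 2, 0, 1, 2], 0, [0, 2, 1, 0, 2], 1),
  ([1, 0, 1, 2, 0, 1, 2], 1, [3, 2, 3, 1, 0], 2),
  ([1, 0, 1, 2, 0, 2, 0], 3, [0, 1, 2, 0, 2], 3),
  ([1, 0, 1, 2, 0, 2, 1], 0, [0, 1, 2, 0, 2], 1),
  ([1, 0, 1, 2, 1, 2, 0], 3, [3, 2, 3, 2, 1], 3),
  ([1, 0, 2, 0, 1, 3], 2, [3, 0, 3, 1, 3, 2], 0),
  ([1, 0, 2, 3, 0, 1, 2], 0, [2, 1, 0, 2, 3], 1),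
  ([1, 0, 3, 0, 1, 2], 3, [2, 1, 0, 3, 0, 1], 3),
  ([1, 0, 3, 0, 3, 2, 1], 0, [2, 1, 3, 2, 1], 0),
  ([1, 0, 3, 2, 0, 1, 2], 0, [2, 1, 0, 3, 2], 1),
  ([1, 0, 3, 2, 1, 3], 0, [2, 1, 2, 0, 3, 2], 0),
  ([1, 2, 0, 1, 0, 2], 1, [2, 3, 0, 2, 3, 1], 0),
  ([1, 2, 0, 1, 0, 2, 1], 3, [2, 0, 1, 2, 1], 3),
  ([1, 2, 1, 2, 1, 2], 0, [2, 1, 2, 1, 2, 1], 0),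
  ([1, 2, 3, 1, 0, 2, 1], 0, [2, 3, 2, 1, 3], 2),
  ([1, 3, 1, 3, 0, 2], 1, [3, 1, 3, 1, 0, 2], 1),
  ([1, 3, 1, 3, 0, 2], 3, [3, 1, 3, 1, 0, 2], 3),
  ([1, 3, 1, 3, 0, 3], 0, [3, 1, 3, 1, 0, 3], 0),
  ([1, 3, 1, 3, 0, 3], 2, [3, 1, 3, 1, 0, 3], 2),
  ([1, 3, 1, 3, 1, 2, 0], 3, [3, 1, 3, 2, 0], 3),
  ([1, 3, 1, 3, 1, 2, 1], 0, [3, 1, 3, 2, 1], 0),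
  ([1, 3, 1, 3, 1, 2, 3], 1, [3, 1, 3, 2, 3], 1),
  ([1, 3, 1, 3, 1, 2, 3], 2, [3, 1, 3, 2, 3], 2),
  ([1, 3, 2, 3, 0, 1, 2], 0, [3, 2, 3, 1, 3], 0),
  ([2, 0, 2, 1, 3, 1, 2], 0, [3, 2, 1, 3, 2], 1),
  ([2, 0, 2, 1, 3, 2, 3], 0, [0, 3, 1, 0, 2], 3),
  ([2, 0, 2, 3, 0, 1, 2], 0, [1, 2, 3, 1, 3], 0),
  ([2, 0, 2, 3, 1, 0, 2], 1, [0, 2, 3, 1, 2], 3),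
  ([2, 0, 2, 3, 1, 2, 3], 0, [0, 3, 0, 3, 2], 3),
  ([2, 0, 2, 3, 1, 3, 2], 1, [3, 2, 1, 3, 1], 2),
  ([2, 0, 3, 1, 3, 1, 2], 0, [1, 3, 2, 3, 2], 3),
  ([2, 1, 0, 3, 1, 0, 2], 1, [1, 2, 0, 1, 3], 2),
  ([2, 1, 2, 0, 1, 2, 1], 0, [3, 1, 3, 2, 3], 1),
  ([2, 1, 2, 0, 2, 0, 1], 3, [3, 1, 3, 0, 1], 3),
  ([2, 1, 2, 0, 2, 3], 1, [1, 2, 3, 1, 3, 1], 0),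
  ([2, 1, 3, 0, 2, 1, 2], 0, [3, 2, 0, 3, 0], 2),
  ([2, 3, 2, 0, 3, 1], 2, [3, 2, 3, 0, 1, 2], 0),
  ([3, 0, 1, 0, 3, 0], 2, [1, 2, 0, 3, 1, 2], 1),
  ([3, 0, 1, 2, 0, 1, 2], 1, [0, 2, 0, 1, 3], 2),
  ([3, 0, 1, 3, 2, 0], 3, [1, 3, 2, 3, 2, 3], 0),
  ([3, 0, 2, 1, 2, 0, 3], 2, [1, 2, 1, 2, 0], 3),
  ([3, 0, 2, 1, 2, 1, 3], 2, [0, 3, 1, 3, 0], 3),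
  ([3, 0, 2, 3, 0, 3, 0], 2, [2, 0, 3, 0, 1], 3),
  ([3, 0, 3, 0, 3, 0, 2], 1, [2, 1, 3, 2, 1], 2),
  ([3, 0, 3, 2, 0, 2], 1, [1, 0, 2, 3, 2, 1], 0),
  ([3, 1, 0, 2, 3, 0, 3], 0, [2, 0, 2, 0, 1], 3),
  ([3, 1, 0, 2, 3, 1], 0, [1, 0, 3, 1, 3, 1], 0),
  ([3, 1, 0, 3, 1, 3, 2], 0, [1, 2, 3, 1, 0], 2),
  ([3, 1, 0, 3, 2, 0, 3], 2, [1, 2, 3, 1, 0], 3),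
  ([3, 1, 2, 1, 0, 2, 0], 3, [1, 2, 3, 2, 1], 3),
  ([3, 1, 3, 0, 1, 2], 1, [2, 0, 3, 0, 1, 2], 0),
  ([3, 1, 3, 0, 1, 2], 3, [2, 0, 1, 3, 2, 1], 2),
  ([3, 1, 3, 0, 3, 0, 3], 1, [2, 1, 2, 1, 3], 2),
  ([0, 1, 0, 2, 0, 1, 0], 2, [1, 2, 0, 3, 1, 3], 2),
  ([0, 1, 0, 2, 0, 3, 1], 0, [1, 3, 0, 1, 2, 0], 3),
  ([0, 1, 0, 2, 1, 0, 3], 0, [1, 3, 0, 1, 2, 1], 0),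
  ([0, 1, 0, 2, 1, 3, 0], 2, [2, 0, 1, 0, 3, 2], 3),
  ([0, 1, 0, 2, 1, 3, 2], 0, [1, 0, 2, 1, 3, 2], 0),
  ([0, 1, 0, 2, 3, 0, 2], 3, [3, 1, 0, 3, 0, 1], 3),
  ([0, 1, 2, 0, 1, 0, 2], 3, [1, 3, 2, 1, 3, 0], 2),
  ([0, 1, 2, 0, 1, 0, 3], 0, [1, 3, 0, 1, 0, 2], 1),
  ([0, 1, 2, 0, 2, 1, 3], 0, [2, 1, 2, 3, 0, 1], 3),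
  ([0, 1, 2, 0, 2, 3, 1], 0, [3, 0, 1, 2, 0, 2], 3),
  ([0, 1, 2, 1, 0, 2, 3], 0, [2, 3, 0, 1, 2, 1], 0),
  ([0, 1, 2, 1, 0, 3, 1], 2, [3, 2, 0, 3, 1, 3], 2),
  ([0, 1, 2, 1, 0, 3, 2], 0, [3, 2, 0, 1, 2, 1], 0),
  ([0, 1, 2, 3, 1, 3, 2], 1, [2, 3, 1, 3, 0, 2], 1),
  ([0, 1, 3, 0, 1, 0, 3], 2, [1, 3, 0, 1, 0, 3], 2),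
  ([0, 1, 3, 2, 0, 3, 0], 2, [1, 3, 2, 0, 3, 0], 2),
  ([0, 1, 3, 2, 3, 1, 3], 2, [2, 1, 2, 3, 1, 2], 3),
  ([0, 2, 0, 1, 2, 0, 2], 1, [2, 1, 2, 1, 2, 3], 1),
  ([0, 2, 0, 1, 2, 3, 2], 3, [3, 1, 2, 0, 1, 0], 2),
  ([0, 2, 0, 1, 3, 2, 1], 2, [2, 3, 0, 1, 3, 1], 0),
  ([0, 2, 0, 2, 1, 3, 0], 2, [3, 0, 1, 3, 0, 3], 1),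
  ([0, 2, 0, 2, 3, 1, 3], 2, [2, 1, 2, 0, 1, 0], 2),
  ([0, 2, 0, 3, 1, 0, 3], 1, [2, 3, 0, 1, 0, 3], 0),
  ([0, 2, 0, 3, 1, 3, 1], 2, [2, 0, 3, 1, 3, 1], 2),
  ([0, 2, 0, 3, 1, 3, 2], 0, [3, 1, 3, 0, 2, 1], 0),
  ([0, 2, 1, 2, 0, 2, 3], 2, [3, 1, 0, 2, 0, 1], 3),
  ([0, 2, 3, 0, 1, 3, 2], 0, [2, 3, 1, 0, 3, 2], 0),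
  ([0, 2, 3, 1, 2, 3, 1], 0, [3, 1, 2, 1, 2, 1], 0),
  ([0, 2, 3, 1, 2, 3, 1], 2, [3, 1, 3, 2, 3, 2], 0),
  ([0, 2, 3, 2, 1, 3, 1], 0, [3, 0, 2, 0, 3, 0], 3),
  ([0, 3, 0, 2, 0, 3, 0], 2, [3, 1, 3, 1, 0, 2], 1),
  ([0, 3, 0, 2, 1, 3, 2], 3, [3, 2, 0, 3, 0, 3], 2),
  ([0, 3, 0, 3, 0, 1, 2], 1, [3, 2, 3, 0, 3, 2], 3),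
  ([0, 3, 1, 2, 0, 1, 2], 3, [3, 1, 2, 0, 1, 2], 3),
  ([0, 3, 1, 3, 0, 2, 1], 3, [3, 1, 3, 1, 0, 2], 3),
  ([0, 3, 1, 3, 2, 0, 2], 1, [3, 1, 3, 2, 0, 3], 1),
  ([1, 0, 1, 2, 0, 1, 2], 1, [0, 2, 1, 0, 2, 1], 0),
  ([1, 0, 1, 2, 1, 3, 0], 2, [2, 0, 1, 0, 3, 2], 3),
  ([1, 0, 1, 2, 3, 0, 2], 3, [3, 1, 0, 3, 0, 1], 3),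
  ([1, 0, 1, 2, 3, 1, 2], 1, [0, 1, 2, 3, 1, 2], 1),
  ([1, 0, 1, 3, 0, 1, 2], 1, [0, 2, 1, 0, 3, 1], 0),
  ([1, 0, 1, 3, 0, 2, 1], 2, [0, 2, 1, 0, 3, 0], 2),
  ([1, 0, 1, 3, 2, 3, 2], 3, [3, 0, 2, 0, 3, 0], 2),
  ([1, 0, 2, 0, 1, 0, 2], 3, [0, 3, 2, 1, 3, 0], 2),
  ([1, 0, 2, 0, 1, 0, 3], 0, [0, 3, 0, 1, 0, 2], 1),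
  ([1, 0, 2, 0, 3, 2, 1], 2, [3, 1, 3, 2, 1, 2], 3),
  ([1, 0, 2, 3, 0, 1, 2], 1, [2, 1, 0, 2, 3, 1], 0),
  ([1, 0, 2, 3, 0, 2, 1], 2, [2, 1, 0, 2, 3, 0], 2),
  ([1, 0, 2, 3, 1, 2, 1], 0, [2, 0, 3, 1, 2, 3], 1),
  ([1, 0, 2, 3, 1, 3, 2], 1, [2, 0, 1, 0, 2, 1], 0),
  ([1, 0, 2, 3, 2, 1, 3], 2, [2, 3, 2, 3, 1, 2], 0),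
  ([1, 0, 3, 0, 1, 0, 3], 2, [0, 3, 0, 1, 0, 3], 2),
  ([1, 0, 3, 0, 1, 2, 3], 1, [2, 1, 0, 3, 0, 3], 1),
  ([1, 0, 3, 0, 2, 3, 1], 0, [3, 1, 3, 0, 2, 1], 0),
  ([1, 0, 3, 0, 3, 1, 3], 2, [2, 1, 0, 3, 2, 1], 2),
  ([1, 0, 3, 2, 0, 1, 2], 1, [2, 1, 0, 3, 2, 1], 0),
  ([1, 0, 3, 2, 0, 3, 0], 2, [0, 3, 2, 0, 3, 0], 2),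
  ([1, 0, 3, 2, 0, 3, 2], 1, [3, 2, 0, 3, 0, 2], 3),
  ([1, 0, 3, 2, 1, 2, 1], 0, [2, 0, 1, 0, 3, 2], 1),
  ([1, 0, 3, 2, 3, 0, 2], 1, [3, 1, 3, 2, 0, 2], 3),
  ([1, 2, 0, 1, 2, 0, 3], 1, [2, 1, 0, 3, 1, 3], 0),
  ([1, 2, 0, 1, 3, 2, 1], 2, [3, 0, 1, 2, 3, 1], 0),
  ([1, 2, 0, 2, 3, 2, 1], 3, [2, 0, 2, 3, 2, 1], 3),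
  ([1, 2, 0, 3, 1, 3, 0], 2, [2, 0, 3, 1, 3, 0], 2),
  ([1, 2, 0, 3, 1, 3, 1], 2, [2, 0, 3, 1, 3, 1], 2),
  ([1, 2, 1, 2, 1, 2, 3], 1, [2, 1, 2, 1, 2, 3], 1),
  ([1, 2, 1, 3, 0, 2, 3], 2, [2, 3, 1, 2, 1, 2], 0),
  ([1, 2, 3, 1, 0, 2, 3], 2, [3, 0, 2, 3, 2, 1], 0),
  ([1, 2, 3, 1, 3, 0, 3], 2, [3, 0, 1, 3, 0, 3], 1),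
  ([1, 2, 3, 2, 0, 3, 2], 3, [3, 2, 1, 2, 3, 2], 1),
  ([1, 2, 3, 2, 3, 1, 0], 2, [2, 3, 2, 3, 1, 0], 2),
  ([1, 2, 3, 2, 3, 2, 0], 3, [3, 2, 3, 2, 3, 0], 3),
  ([1, 3, 0, 1, 3, 0, 3], 0, [3, 1, 2, 3, 0, 2], 3),
  ([1, 3, 0, 2, 0, 1, 2], 1, [3, 0, 2, 1, 2, 1], 0),
  ([1, 3, 0, 2, 0, 1, 2], 3, [3, 0, 2, 1, 2, 0], 3),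
  ([1, 3, 0, 2, 3, 1, 3], 2, [3, 2, 0, 3, 1, 3], 2),
  ([1, 3, 1, 2, 0, 1, 0], 2, [3, 2, 3, 1, 3, 0], 2),
  ([1, 3, 2, 0, 3, 0, 3], 2, [3, 2, 3, 2, 3, 0], 2),
  ([2, 0, 1, 0, 3, 0, 3], 1, [1, 0, 3, 1, 0, 3], 1),
  ([2, 0, 1, 0, 3, 1, 2], 3, [0, 1, 0, 3, 1, 2], 3),
  ([2, 0, 1, 0, 3, 2, 1], 2, [3, 0, 2, 3, 0, 3], 0),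
  ([2, 0, 1, 2, 0, 1, 3], 2, [0, 1, 2, 0, 1, 3], 2),
  ([2, 0, 1, 2, 0, 2, 1], 0, [3, 0, 2, 0, 3, 0], 2),
  ([2, 0, 1, 2, 0, 3, 0], 2, [0, 1, 2, 0, 3, 0], 2),
  ([2, 0, 1, 2, 0, 3, 1], 2, [0, 1, 2, 0, 3, 1], 2),
  ([2, 0, 1, 2, 1, 2, 3], 1, [1, 2, 3, 1, 3, 2], 0),
  ([2, 0, 1, 2, 1, 2, 3], 2, [0, 3, 2, 3, 1, 2], 3),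
  ([2, 0, 1, 2, 3, 0, 3], 0, [1, 0, 3, 1, 2, 0], 3),
  ([2, 0, 1, 3, 2, 3, 2], 3, [0, 1, 3, 2, 3, 2], 3),
  ([2, 0, 2, 0, 1, 0, 2], 3, [0, 2, 0, 1, 0, 2], 3),
  ([2, 0, 2, 0, 1, 0, 3], 2, [0, 2, 0, 1, 0, 3], 2),
  ([2, 0, 2, 0, 1, 3, 0], 2, [3, 0, 1, 3, 0, 3], 1),
  ([2, 0, 2, 1, 0, 3, 0], 2, [0, 2, 1, 0, 3, 0], 2),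
  ([2, 0, 2, 1, 0, 3, 1], 2, [0, 2, 1, 0, 3, 1], 2),
  ([2, 0, 2, 1, 2, 0, 3], 2, [3, 1, 2, 1, 2, 3], 1),
  ([2, 0, 2, 1, 3, 1, 2], 3, [3, 2, 0, 1, 3, 0], 3),
  ([2, 0, 2, 1, 3, 2, 1], 2, [0, 3, 0, 1, 3, 1], 0),
  ([2, 0, 2, 3, 1, 0, 3], 1, [0, 3, 0, 1, 0, 3], 0),
  ([2, 0, 2, 3, 2, 0, 2], 1, [1, 2, 0, 1, 3, 0], 2),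
  ([2, 0, 3, 0, 2, 1, 2], 3, [1, 2, 3, 1, 2, 1], 3),
  ([2, 0, 3, 1, 0, 2, 0], 3, [1, 2, 0, 3, 2, 1], 3),
  ([2, 0, 3, 1, 3, 1, 2], 1, [1, 0, 3, 1, 3, 2], 0),
  ([2, 0, 3, 1, 3, 2, 1], 2, [1, 2, 0, 3, 1, 3], 2),
  ([2, 0, 3, 1, 3, 2, 3], 0, [3, 1, 2, 3, 0, 2], 3),
  ([2, 1, 0, 2, 0, 1, 0], 2, [1, 0, 2, 0, 1, 0], 2),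
  ([2, 1, 0, 2, 0, 3, 1], 2, [1, 3, 2, 1, 2, 0], 3),
  ([2, 1, 0, 2, 1, 2, 1], 0, [1, 0, 3, 1, 3, 2], 1),
  ([2, 1, 0, 2, 1, 3, 0], 2, [1, 0, 2, 1, 3, 0], 2),
  ([2, 1, 0, 2, 1, 3, 1], 2, [1, 0, 2, 1, 3, 1], 2),
  ([2, 1, 0, 2, 3, 0, 2], 1, [1, 0, 2, 3, 0, 2], 1),
  ([2, 1, 0, 2, 3, 1, 0], 2, [1, 0, 2, 3, 1, 0], 2),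
  ([2, 1, 0, 2, 3, 2, 1], 3, [1, 0, 2, 3, 2, 1], 3),
  ([2, 1, 0, 2, 3, 2, 3], 2, [1, 0, 2, 3, 2, 3], 2),
  ([2, 1, 0, 3, 1, 3, 0], 2, [1, 0, 3, 1, 3, 0], 2),
  ([2, 1, 0, 3, 1, 3, 1], 2, [1, 0, 3, 1, 3, 1], 2),
  ([2, 1, 0, 3, 1, 3, 2], 3, [3, 1, 2, 1, 3, 0], 2),
  ([2, 1, 0, 3, 2, 0, 2], 1, [1, 0, 3, 2, 0, 2], 1),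
  ([2, 1, 0, 3, 2, 1, 2], 3, [3, 1, 2, 1, 3, 0], 3),
  ([2, 1, 0, 3, 2, 3, 1], 2, [3, 2, 0, 3, 1, 3], 0),
  ([2, 1, 2, 0, 1, 2, 3], 2, [1, 2, 0, 1, 3, 2], 3),
  ([2, 1, 2, 0, 2, 0, 3], 1, [1, 2, 1, 2, 0, 2], 1),
  ([2, 1, 2, 0, 2, 0, 3], 2, [1, 3, 2, 3, 1, 2], 3),
  ([2, 1, 2, 1, 2, 0, 2], 3, [1, 2, 1, 2, 0, 2], 3),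
  ([2, 1, 2, 1, 2, 0, 3], 2, [1, 2, 1, 2, 0, 3], 2),
  ([2, 1, 2, 3, 1, 3, 2], 1, [1, 2, 3, 1, 3, 2], 1),
  ([2, 1, 3, 0, 1, 0, 2], 1, [3, 0, 2, 0, 3, 2], 0),
  ([2, 1, 3, 0, 2, 0, 3], 2, [3, 2, 3, 2, 1, 3], 2),
  ([2, 1, 3, 0, 2, 3, 1], 0, [3, 1, 3, 2, 0, 3], 1),
  ([2, 1, 3, 0, 3, 0, 2], 1, [1, 3, 2, 1, 2, 1], 0),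
  ([2, 3, 0, 1, 0, 2, 1], 0, [3, 1, 3, 0, 3, 1], 0),
  ([2, 3, 0, 1, 3, 2, 3], 0, [3, 1, 2, 3, 0, 3], 1),
  ([2, 3, 0, 2, 1, 2, 0], 3, [3, 0, 2, 3, 1, 3], 2),
  ([2, 3, 1, 0, 2, 0, 1], 3, [3, 2, 3, 2, 0, 2], 1),
  ([2, 3, 1, 2, 3, 1, 2], 3, [3, 1, 2, 3, 1, 2], 3),
  ([2, 3, 1, 3, 1, 0, 2], 1, [3, 1, 3, 1, 0, 2], 1),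
  ([2, 3, 1, 3, 1, 2, 3], 2, [3, 2, 1, 3, 1, 2], 3),
  ([2, 3, 1, 3, 2, 0, 2], 3, [3, 1, 3, 2, 0, 2], 3),
  ([2, 3, 2, 1, 0, 2, 0], 3, [3, 2, 1, 0, 2, 0], 3),
  ([2, 3, 2, 3, 0, 2, 1], 2, [3, 2, 3, 2, 3, 0], 2),
  ([3, 0, 1, 0, 3, 0, 3], 0, [1, 3, 2, 3, 0, 2], 3),
  ([3, 0, 1, 2, 0, 2, 3], 1, [1, 3, 0, 1, 2, 3], 1),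
  ([3, 0, 1, 2, 1, 2, 3], 1, [1, 3, 2, 1, 2, 1], 0),
  ([3, 0, 1, 2, 3, 1, 2], 0, [1, 2, 0, 1, 3, 0], 2),
  ([3, 0, 1, 3, 2, 0, 3], 2, [0, 2, 3, 1, 2, 1], 3),
  ([3, 0, 1, 3, 2, 3, 2], 3, [2, 3, 2, 0, 1, 0], 2),
  ([3, 0, 2, 0, 1, 0, 2], 3, [1, 3, 2, 0, 2, 1], 3),
  ([3, 0, 2, 0, 1, 3, 2], 3, [0, 2, 0, 1, 3, 2], 3),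
  ([3, 0, 2, 0, 3, 2, 1], 2, [1, 3, 2, 3, 2, 1], 2),
  ([3, 0, 2, 1, 2, 0, 3], 1, [1, 3, 2, 1, 0, 2], 1),
  ([3, 0, 2, 1, 3, 1, 2], 1, [1, 2, 3, 2, 0, 3], 2),
  ([3, 0, 2, 3, 0, 1, 3], 0, [1, 0, 2, 1, 2, 1], 3),
  ([3, 0, 2, 3, 1, 3, 1], 0, [1, 3, 2, 0, 1, 2], 1),
  ([3, 0, 2, 3, 1, 3, 2], 1, [1, 3, 2, 1, 2, 3], 1),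
  ([3, 0, 2, 3, 2, 1, 3], 0, [0, 3, 1, 2, 0, 2], 3),
  ([3, 0, 3, 0, 2, 3, 1], 0, [1, 3, 1, 0, 2, 1], 0),
  ([3, 0, 3, 1, 0, 3, 0], 3, [2, 3, 2, 1, 2, 1], 0),
  ([3, 0, 3, 1, 3, 1, 2], 1, [1, 3, 2, 1, 0, 3], 1),
  ([3, 0, 3, 2, 3, 0, 2], 1, [1, 3, 1, 2, 0, 2], 3),
  ([3, 0, 3, 2, 3, 1, 2], 3, [1, 2, 1, 2, 3, 2], 1),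
  ([3, 1, 0, 2, 0, 3, 0], 2, [2, 0, 3, 1, 3, 2], 0),
  ([3, 1, 0, 2, 0, 3, 1], 2, [2, 1, 3, 1, 2, 3], 2),
  ([0, 1, 2, 1, 0, 2, 1], 2, [2, 0, 1, 2, 0, 1, 0], 2),
  ([0, 1, 2, 1, 2, 0, 2], 1, [2, 0, 1, 2, 1, 2, 1], 0),
  ([0, 2, 0, 2, 0, 1, 0, 2], 1, [2, 0, 2, 1, 0, 2], 1),
  ([1, 0, 1, 0, 2, 0, 1, 0], 2, [0, 1, 2, 0, 1, 0], 2),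
  ([1, 0, 1, 0, 2, 1, 2, 1], 0, [0, 1, 2, 1, 2, 1], 0),
  ([0, 1, 0, 2, 0, 1, 0, 2], 1, [2, 0, 2, 1, 2, 0, 2], 1),
  ([0, 1, 2, 0, 1, 2, 0, 2], 1, [1, 2, 0, 1, 2, 0, 2], 1),
  ([0, 1, 2, 1, 0, 2, 1, 2], 0, [2, 0, 1, 2, 0, 1, 2], 0),
  ([0, 2, 0, 2, 1, 0, 2, 1], 2, [2, 0, 2, 1, 0, 2, 1], 2),
  ([1, 0, 1, 2, 0, 1, 0, 2], 1, [2, 0, 2, 1, 2, 0, 2], 1),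
  ([1, 0, 2, 0, 1, 2, 0, 2], 1, [0, 2, 0, 1, 2, 0, 2], 1),
  ([1, 0, 2, 1, 0, 2, 1, 2], 0, [2, 0, 1, 2, 0, 1, 2], 1),
  ([1, 2, 0, 2, 1, 0, 2, 1], 2, [2, 0, 2, 1, 0, 2, 1], 2),
  ([2, 0, 1, 2, 0, 1, 0, 2], 1, [0, 1, 2, 0, 1, 0, 2], 1),
  ([2, 0, 2, 0, 1, 2, 0, 2], 1, [1, 0, 2, 0, 1, 0, 2], 1),
  ([2, 1, 0, 2, 1, 0, 2, 1], 2, [1, 0, 2, 1, 0, 2, 1], 2),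
  ([2, 1, 2, 1, 2, 0, 1, 0], 2, [1, 2, 1, 2, 0, 1, 0], 2),
  ([0, 1, 0, 2, 1, 0, 2, 1], 2, [1, 2, 0, 1, 2, 0, 1, 0], 2),
  ([0, 1, 0, 2, 1, 2, 0, 2], 1, [1, 2, 0, 1, 2, 1, 2, 1], 0),
  ([0, 1, 2, 0, 1, 2, 0, 1, 2], 0, [2, 0, 1, 2, 0, 1, 2], 1),
  ([0, 1, 2, 0, 2, 1, 2, 1], 0, [2, 0, 1, 0, 2, 1, 2, 1], 0),
  ([0, 2, 0, 2, 0, 1, 0, 2, 1], 0, [2, 0, 2, 1, 0, 2, 1], 0),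
  ([0, 2, 0, 2, 1, 2, 0, 1, 0], 2, [2, 1, 2, 1, 0, 2, 1], 2),
  ([0, 2, 0, 2, 1, 2, 1, 2, 1], 0, [2, 1, 2, 1, 2, 0, 2], 1),
  ([1, 0, 1, 2, 0, 2, 0, 1, 2], 0, [0, 1, 2, 0, 2, 1, 2], 0),
  ([1, 0, 2, 1, 2, 0, 1, 2], 1, [2, 1, 2, 0, 1, 0, 2, 1], 0),
  ([1, 0, 2, 1, 2, 1, 2, 1], 0, [2, 0, 1, 0, 2, 1, 2, 1], 0),
  ([1, 2, 1, 2, 0, 2, 0, 1, 2], 0, [2, 1, 2, 1, 2, 0, 2], 1),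
  ([0, 2, 0, 2, 1, 2, 0, 1, 2], 0, [2, 1, 2, 1, 0, 2, 1, 2], 0),
  ([1, 2, 0, 2, 1, 0, 2, 1, 2], 0, [2, 0, 2, 1, 0, 2, 1, 2], 0),
  ([1, 2, 1, 2, 1, 2, 0, 1, 2], 0, [2, 1, 2, 1, 2, 0, 1, 2], 0),
  ([2, 0, 1, 2, 1, 2, 0, 1, 0], 2, [0, 1, 2, 1, 2, 0, 1, 0], 2),
  ([2, 0, 1, 2, 1, 2, 0, 1, 2], 1, [0, 1, 2, 1, 2, 0, 1, 2], 1),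
  ([2, 0, 2, 0, 1, 2, 0, 2, 1], 0, [0, 2, 0, 1, 2, 0, 2, 1], 0),
  ([2, 0, 2, 1, 2, 0, 1, 0, 2], 1, [0, 2, 1, 2, 0, 1, 0, 2], 1),
  ([2, 1, 2, 0, 1, 2, 0, 2, 1], 0, [1, 2, 0, 1, 2, 0, 2, 1], 0),
  ([2, 1, 2, 1, 2, 1, 0, 2, 1], 2, [1, 2, 1, 2, 1, 0, 2, 1], 2),
  ([0, 1, 2, 1, 0, 2, 1, 2, 1], 0, [2, 0, 1, 2, 0, 1, 0, 2, 1], 0),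
  ([0, 1, 2, 1, 2, 0, 2, 1, 2], 0, [2, 0, 1, 2, 1, 2, 0, 1, 2], 0),
  ([0, 1, 2, 1, 2, 1, 0, 2, 1], 2, [2, 1, 2, 0, 1, 2, 0, 1, 0], 2),
  ([0, 2, 0, 2, 1, 0, 2, 1, 2], 0, [2, 0, 2, 1, 2, 0, 1, 2, 1], 0),
  ([0, 2, 0, 2, 1, 0, 2, 1, 2, 1], 0, [2, 1, 2, 0, 2, 1, 2, 1], 0),
  ([0, 2, 0, 2, 1, 2, 0, 1, 2], 1, [2, 1, 2, 0, 1, 2, 0, 1, 2], 0),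
  ([1, 0, 1, 0, 2, 0, 1, 0, 2, 1], 0, [0, 1, 2, 0, 1, 0, 2, 1], 0),
  ([1, 0, 1, 0, 2, 1, 2, 0, 1, 0], 2, [0, 1, 2, 1, 2, 0, 1, 0], 2),
  ([1, 0, 1, 0, 2, 1, 2, 0, 1, 2], 0, [0, 1, 2, 1, 2, 0, 1, 2], 0),
  ([1, 0, 1, 2, 0, 2, 0, 1, 0, 2], 1, [0, 1, 2, 0, 2, 1, 0, 2], 1),
  ([1, 0, 1, 2, 1, 2, 0, 1, 2], 1, [0, 2, 1, 2, 0, 1, 0, 2, 1], 0),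
  ([1, 0, 2, 0, 1, 2, 0, 2, 1], 0, [2, 1, 0, 2, 0, 1, 0, 2, 1], 0),
  ([1, 2, 0, 2, 1, 2, 0, 1, 2], 1, [2, 1, 2, 1, 2, 0, 1, 2, 1], 0),
  ([1, 2, 1, 2, 1, 2, 0, 1, 0, 2], 1, [2, 1, 2, 1, 2, 0, 1, 2], 1),
  ([0, 1, 2, 0, 1, 0, 2, 0, 1, 0], 2, [1, 2, 0, 1, 0, 2, 0, 1, 0], 2),
  ([0, 1, 2, 0, 2, 0, 1, 0, 2, 1], 0, [1, 2, 0, 2, 0, 1, 0, 2, 1], 0),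
  ([0, 2, 0, 1, 2, 0, 2, 0, 1, 2], 0, [2, 1, 2, 0, 2, 0, 1, 0, 2], 1),
  ([1, 0, 2, 0, 1, 0, 2, 0, 1, 0], 2, [0, 2, 0, 1, 0, 2, 0, 1, 0], 2),
  ([1, 2, 1, 2, 0, 2, 0, 1, 0, 2], 1, [2, 1, 2, 0, 2, 0, 1, 0, 2], 1),
  ([2, 0, 1, 2, 0, 2, 0, 1, 0, 2], 1, [0, 2, 1, 2, 0, 2, 0, 1, 2], 0),
  ([2, 0, 2, 0, 1, 0, 2, 0, 1, 0], 2, [0, 2, 0, 1, 0, 2, 0, 1, 0], 2),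
  ([2, 0, 2, 1, 2, 1, 2, 0, 1, 2], 1, [0, 2, 1, 2, 1, 2, 0, 1, 2], 1),
  ([2, 1, 2, 0, 2, 0, 1, 0, 2, 1], 0, [1, 2, 0, 2, 0, 1, 0, 2, 1], 0),
  ([2, 1, 2, 1, 0, 2, 1, 2, 0, 2], 1, [1, 2, 1, 0, 2, 1, 2, 0, 2], 1),
  ([0, 1, 0, 2, 1, 0, 2, 1, 2, 1], 0, [1, 2, 0, 1, 2, 0, 1, 0, 2, 1], 0),
  ([0, 1, 0, 2, 1, 2, 0, 2, 1, 2], 0, [1, 2, 0, 1, 2, 1, 2, 0, 1, 2], 0),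
  ([0, 1, 2, 0, 2, 1, 2, 0, 1, 0], 2, [1, 2, 1, 2, 0, 1, 2, 0, 1, 0], 2),
  ([0, 1, 2, 1, 0, 2, 1, 2, 0, 1, 2], 0, [2, 0, 1, 2, 0, 2, 1, 0, 2], 1),
  ([0, 1, 2, 1, 0, 2, 1, 2, 0, 2], 1, [2, 0, 1, 2, 0, 1, 2, 0, 2, 1], 0),
  ([0, 1, 2, 1, 2, 0, 2, 1, 0, 2], 1, [2, 0, 1, 2, 1, 2, 0, 1, 0, 2], 1),
  ([0, 1, 2, 1, 2, 0, 2, 1, 2, 1], 0, [2, 0, 1, 2, 1, 2, 0, 1, 2, 1], 0),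
  ([0, 2, 0, 2, 0, 1, 2, 0, 2, 1, 2], 0, [2, 0, 2, 1, 2, 0, 2, 1, 2], 0),
  ([0, 2, 0, 2, 1, 2, 0, 1, 0, 2, 1], 0, [2, 1, 2, 1, 0, 2, 1, 2, 1], 0),
  ([0, 2, 0, 2, 1, 2, 1, 2, 0, 1, 2], 0, [2, 1, 2, 1, 2, 0, 2, 1, 2], 0),
  ([1, 0, 1, 0, 2, 1, 2, 0, 1, 0, 2], 1, [0, 1, 2, 1, 2, 0, 1, 0, 2], 1),
  ([1, 0, 1, 0, 2, 1, 2, 0, 1, 2, 1], 0, [0, 1, 2, 1, 2, 0, 1, 2, 1], 0),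
  ([1, 0, 1, 2, 0, 1, 2, 0, 2, 1], 0, [0, 2, 1, 0, 2, 0, 1, 0, 2, 1], 0),
  ([1, 0, 1, 2, 0, 2, 1, 2, 1, 2, 1], 0, [0, 2, 1, 2, 0, 2, 0, 1, 2], 0),
  ([1, 0, 2, 0, 1, 2, 0, 2, 1, 2], 0, [2, 1, 0, 2, 1, 2, 0, 1, 2, 1], 0),
  ([1, 0, 2, 1, 0, 2, 1, 2, 0, 2], 1, [2, 1, 0, 2, 1, 0, 2, 1, 2, 1], 0),
  ([1, 2, 0, 2, 1, 2, 0, 2, 1, 2], 0, [2, 1, 2, 0, 1, 2, 0, 2, 1, 2], 0),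
  ([1, 2, 1, 2, 1, 2, 0, 2, 1, 2], 0, [2, 1, 2, 1, 2, 1, 0, 2, 1, 2], 0),
  ([2, 0, 1, 0, 2, 1, 2, 0, 1, 0, 2], 1, [0, 2, 1, 0, 2, 1, 2, 0, 2], 1),
  ([2, 0, 1, 2, 0, 2, 1, 2, 0, 1, 2], 0, [0, 2, 1, 2, 0, 2, 1, 0, 2], 1),
  ([2, 0, 2, 1, 2, 0, 1, 2, 1, 2, 1], 0, [1, 0, 2, 1, 2, 0, 1, 0, 2], 1),
  ([2, 1, 2, 0, 2, 1, 2, 0, 1, 2], 0, [1, 2, 1, 0, 2, 1, 2, 0, 1, 2], 0),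
  ([0, 1, 0, 2, 1, 2, 1, 2, 0, 1, 2], 0, [1, 0, 2, 1, 2, 1, 2, 0, 1, 2], 0),
  ([0, 1, 2, 0, 1, 2, 0, 2, 0, 1, 2], 0, [1, 2, 0, 1, 2, 0, 2, 0, 1, 2], 0),
  ([0, 1, 2, 0, 2, 1, 2, 0, 1, 2, 1], 0, [1, 2, 0, 2, 1, 2, 0, 1, 2, 1], 0),
  ([0, 1, 2, 1, 0, 2, 1, 2, 0, 1, 0], 2, [2, 1, 2, 0, 1, 0, 2, 0, 1, 0], 2),
  ([0, 1, 2, 1, 2, 0, 1, 2, 1, 2, 1], 0, [1, 2, 1, 2, 0, 1, 2, 1, 2, 1], 0),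
  ([1, 0, 1, 2, 0, 2, 1, 2, 0, 1, 2], 0, [0, 1, 2, 1, 2, 1, 0, 2, 1, 2], 0),
  ([1, 0, 2, 1, 2, 0, 1, 2, 1, 2, 1], 0, [0, 2, 1, 2, 0, 1, 2, 1, 2, 1], 0),
  ([1, 2, 0, 2, 1, 2, 0, 1, 0, 2, 1], 0, [2, 0, 2, 1, 2, 0, 1, 0, 2, 1], 0),
  ([2, 0, 2, 1, 0, 2, 0, 1, 0, 2, 1], 0, [0, 2, 1, 0, 2, 0, 1, 0, 2, 1], 0),
  ([2, 1, 0, 2, 1, 2, 1, 2, 0, 1, 2], 1, [1, 2, 0, 1, 2, 0, 1, 0, 2, 1], 0),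
  ([0, 1, 0, 2, 1, 0, 2, 1, 2, 0, 1, 2], 0, [1, 2, 0, 1, 2, 0, 2, 1, 0, 2], 1),
  ([0, 1, 0, 2, 1, 2, 0, 2, 1, 0, 2], 1, [1, 2, 0, 1, 2, 1, 2, 0, 1, 0, 2], 1),
  ([0, 1, 0, 2, 1, 2, 1, 2, 0, 1, 0, 2], 1, [1, 0, 2, 1, 2, 1, 2, 0, 1, 2], 1),
  ([0, 1, 0, 2, 1, 2, 1, 2, 0, 1, 2, 1], 0, [1, 2, 1, 2, 0, 1, 2, 0, 1, 2], 0),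
  ([0, 1, 2, 0, 1, 2, 0, 1, 2, 0, 2, 1], 0, [2, 1, 0, 2, 1, 0, 2, 1, 2, 1], 0),
  ([0, 1, 2, 0, 1, 2, 1, 2, 0, 1, 2, 1], 0, [1, 2, 0, 2, 1, 0, 2, 1, 2, 1], 0),
  ([0, 2, 0, 1, 0, 2, 1, 2, 0, 1, 2], 0, [2, 1, 2, 1, 2, 0, 1, 2, 0, 1, 2], 0),
  ([0, 2, 0, 2, 1, 2, 1, 2, 0, 1, 0, 2], 1, [2, 1, 2, 1, 2, 0, 2, 1, 0, 2], 1),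
  ([0, 2, 0, 2, 1, 2, 1, 2, 0, 1, 2, 1], 0, [2, 1, 2, 1, 2, 0, 2, 1, 2, 1], 0),
  ([1, 0, 1, 2, 0, 1, 2, 0, 2, 1, 2], 0, [0, 2, 1, 0, 2, 1, 2, 0, 1, 2, 1], 0),
  ([1, 0, 2, 1, 2, 0, 2, 1, 2, 0, 1, 0], 2, [2, 1, 2, 0, 2, 1, 2, 0, 1, 0], 2),
  ([1, 2, 1, 0, 2, 1, 2, 0, 2, 1, 2], 0, [2, 1, 2, 0, 1, 2, 0, 2, 0, 1, 2], 0),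
  ([1, 2, 1, 2, 0, 2, 1, 2, 1, 2, 1], 0, [2, 1, 2, 1, 2, 0, 1, 2, 1, 2, 1], 0),
  ([1, 2, 1, 2, 1, 2, 0, 1, 2, 0, 1, 2], 0, [2, 1, 2, 1, 2, 0, 2, 1, 0, 2], 1),
  ([1, 2, 1, 2, 1, 2, 0, 2, 1, 2, 1], 0, [2, 1, 2, 1, 2, 1, 0, 2, 1, 2, 1], 0),
  ([2, 0, 2, 1, 0, 2, 1, 2, 0, 1, 2], 0, [1, 0, 2, 1, 2, 1, 2, 0, 1, 2, 1], 0),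
  ([2, 0, 2, 1, 2, 0, 2, 1, 2, 1, 2, 1], 0, [1, 0, 2, 1, 2, 0, 2, 1, 0, 2], 1),
  ([0, 1, 0, 2, 1, 0, 2, 1, 2, 0, 1, 0], 2, [1, 2, 1, 2, 0, 1, 0, 2, 0, 1, 0], 2),
  ([0, 2, 1, 0, 2, 1, 2, 1, 2, 0, 1, 2], 0, [2, 1, 0, 2, 1, 2, 1, 2, 0, 1, 2], 0),
  ([0, 2, 1, 2, 0, 1, 2, 0, 2, 0, 1, 2], 0, [2, 1, 2, 0, 1, 2, 0, 2, 0, 1, 2], 0),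
  ([0, 2, 1, 2, 0, 1, 2, 0, 2, 1, 0, 2], 1, [2, 1, 2, 0, 1, 2, 1, 2, 0, 1, 2], 0),
  ([0, 2, 1, 2, 0, 2, 1, 2, 0, 1, 2, 1], 0, [2, 1, 2, 0, 2, 1, 2, 0, 1, 2, 1], 0),
  ([0, 2, 1, 2, 1, 0, 2, 1, 2, 0, 1, 0], 2, [2, 1, 2, 1, 0, 2, 1, 2, 0, 1, 0], 2),
  ([0, 2, 1, 2, 1, 2, 0, 1, 2, 1, 2, 1], 0, [2, 1, 2, 1, 2, 0, 1, 2, 1, 2, 1], 0),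
  ([0, 2, 1, 2, 1, 2, 1, 0, 2, 1, 2, 1], 0, [2, 1, 2, 1, 2, 1, 0, 2, 1, 2, 1], 0),
  ([1, 0, 2, 1, 0, 2, 1, 2, 0, 2, 1, 2], 0, [0, 2, 1, 0, 2, 1, 2, 0, 2, 1, 2], 0),
  ([1, 0, 2, 1, 2, 0, 2, 1, 2, 1, 2, 1], 0, [0, 2, 1, 2, 0, 2, 1, 2, 1, 2, 1], 0),
  ([1, 2, 0, 1, 0, 2, 1, 2, 0, 1, 2, 1], 0, [2, 1, 2, 0, 1, 2, 1, 2, 0, 1, 2], 0),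
  ([1, 2, 0, 1, 2, 1, 2, 1, 0, 2, 1, 2], 0, [2, 0, 1, 2, 1, 2, 1, 0, 2, 1, 2], 0),
  ([1, 2, 0, 2, 1, 2, 1, 2, 0, 1, 2, 1], 0, [2, 0, 2, 1, 2, 1, 2, 0, 1, 2, 1], 0),
  ([2, 0, 2, 1, 0, 2, 1, 2, 0, 2, 1, 2], 0, [1, 0, 2, 1, 0, 2, 1, 2, 0, 1, 2], 0),
  ([2, 0, 2, 1, 2, 0, 1, 2, 0, 2, 1, 2], 0, [1, 2, 0, 2, 1, 2, 1, 2, 0, 1, 2], 0),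
  ([2, 1, 0, 2, 1, 0, 2, 1, 2, 0, 1, 0], 2, [1, 0, 2, 1, 0, 2, 1, 2, 0, 1, 0], 2),
  ([2, 1, 2, 0, 1, 0, 2, 1, 2, 0, 1, 2], 0, [1, 2, 0, 1, 2, 1, 2, 0, 1, 2, 1], 0),
  ([0, 1, 2, 0, 1, 2, 0, 2, 1, 2, 1, 2, 1], 0, [2, 0, 1, 2, 0, 1, 2, 0, 2, 1, 2], 0),
  ([0, 1, 2, 0, 2, 0, 1, 2, 0, 2, 1, 2], 0, [2, 0, 2, 1, 0, 2, 1, 2, 0, 1, 2, 1], 0),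
  ([0, 1, 2, 1, 2, 0, 2, 1, 0, 2, 1, 2, 1], 0, [2, 0, 1, 2, 0, 2, 1, 2, 1, 2, 1], 0),
  ([0, 1, 2, 1, 2, 0, 2, 1, 2, 0, 1, 2, 1], 0, [2, 0, 1, 2, 1, 2, 1, 0, 2, 1, 2], 0),
  ([0, 2, 0, 2, 0, 1, 0, 2, 1, 2, 0, 1, 0], 2, [2, 0, 2, 1, 0, 2, 1, 2, 0, 1, 0], 2),
  ([1, 0, 1, 2, 0, 1, 0, 2, 1, 2, 0, 1, 2], 0, [2, 0, 2, 1, 2, 1, 2, 0, 1, 0, 2], 1),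
  ([1, 0, 1, 2, 0, 2, 1, 2, 1, 2, 0, 1, 2], 0, [0, 2, 1, 2, 1, 2, 1, 0, 2, 1, 2], 0),
  ([1, 0, 2, 1, 2, 0, 1, 2, 0, 2, 1, 2], 0, [2, 0, 2, 1, 0, 2, 1, 2, 0, 1, 2, 1], 0),
  ([1, 0, 2, 1, 2, 0, 2, 1, 0, 2, 1, 2, 1], 0, [2, 0, 1, 2, 0, 1, 2, 0, 2, 1, 2], 0),
  ([1, 2, 0, 2, 1, 2, 1, 2, 1, 0, 2, 1, 2], 0, [2, 1, 2, 0, 1, 2, 0, 2, 1, 0, 2], 1),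
  ([1, 2, 1, 2, 1, 2, 0, 1, 0, 2, 0, 1, 0], 2, [2, 1, 2, 1, 2, 0, 1, 2, 0, 1, 0], 2),
  ([2, 0, 2, 0, 1, 0, 2, 1, 2, 0, 1, 2, 1], 0, [1, 2, 0, 2, 0, 1, 2, 0, 2, 1, 2], 0),
  ([2, 1, 2, 0, 1, 2, 1, 2, 0, 1, 0, 2], 1, [1, 2, 1, 2, 0, 2, 1, 0, 2, 1, 2, 1], 0),
  ([0, 2, 1, 0, 2, 1, 2, 1, 2, 0, 1, 0, 2], 1, [2, 1, 2, 0, 1, 2, 0, 1, 2, 0, 2, 1], 0),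
  ([1, 2, 1, 0, 2, 1, 2, 1, 2, 0, 1, 0, 2], 1, [2, 1, 0, 2, 1, 2, 1, 2, 0, 1, 0, 2], 1),
  ([2, 0, 1, 2, 0, 1, 0, 2, 1, 2, 0, 1, 0], 2, [0, 1, 2, 0, 1, 0, 2, 1, 2, 0, 1, 0], 2),
  ([2, 0, 1, 2, 0, 2, 1, 2, 1, 2, 0, 1, 2], 0, [1, 2, 0, 1, 2, 0, 2, 1, 2, 1, 2, 1], 0),
  ([2, 0, 2, 1, 2, 0, 2, 1, 0, 2, 1, 2, 1], 0, [1, 2, 1, 0, 2, 1, 2, 1, 2, 0, 1, 2], 0),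
  ([0, 1, 0, 2, 0, 1, 0, 2, 1, 2, 0, 1, 2, 1], 0, [2, 0, 2, 1, 2, 1, 2, 1, 0, 2, 1, 2], 0),
  ([0, 1, 2, 1, 0, 2, 1, 2, 1, 2, 0, 1, 2], 0, [2, 0, 1, 2, 0, 1, 0, 2, 1, 2, 0, 1, 2], 0),
  ([0, 2, 0, 2, 1, 2, 0, 2, 1, 2, 0, 1, 0], 2, [2, 0, 2, 1, 2, 1, 2, 0, 1, 2, 0, 1, 0], 2),
  ([1, 0, 1, 0, 2, 0, 1, 0, 2, 1, 2, 0, 1, 0], 2, [0, 1, 2, 0, 1, 0, 2, 1, 2, 0, 1, 0], 2),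
  ([1, 0, 1, 2, 0, 2, 1, 0, 2, 1, 2, 0, 1, 0], 2, [2, 0, 2, 1, 2, 0, 2, 1, 2, 0, 1, 0], 2),
  ([1, 0, 2, 1, 2, 0, 1, 0, 2, 1, 2, 0, 1, 0], 2, [2, 1, 2, 0, 1, 0, 2, 1, 2, 0, 1, 0], 2),
  ([1, 2, 0, 2, 0, 1, 0, 2, 1, 2, 0, 1, 0], 2, [2, 0, 2, 1, 2, 1, 2, 0, 1, 2, 0, 1, 0], 2),
  ([2, 0, 1, 0, 2, 0, 1, 0, 2, 1, 2, 0, 1, 0], 2, [1, 2, 0, 2, 1, 0, 2, 1, 2, 0, 1, 0], 2),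
  ([2, 0, 1, 2, 0, 2, 1, 0, 2, 1, 2, 0, 1, 0], 2, [1, 2, 1, 2, 1, 0, 2, 1, 2, 0, 1, 0], 2),
  ([2, 1, 0, 2, 0, 1, 0, 2, 1, 2, 0, 1, 0], 2, [1, 0, 2, 1, 2, 1, 2, 0, 1, 2, 0, 1, 0], 2),
  ([2, 1, 0, 2, 0, 1, 0, 2, 1, 2, 0, 1, 2, 1], 0, [1, 2, 1, 2, 0, 2, 1, 2, 0, 1, 2, 1], 0),
  ([0, 1, 2, 1, 2, 0, 1, 2, 0, 1, 2, 0, 2, 1], 0, [1, 2, 1, 2, 0, 1, 2, 0, 1, 2, 0, 2, 1], 0),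
  ([1, 0, 1, 2, 1, 2, 1, 0, 2, 1, 2, 0, 1, 0], 2, [0, 1, 2, 1, 2, 1, 0, 2, 1, 2, 0, 1, 0], 2),
  ([1, 2, 0, 1, 2, 0, 1, 0, 2, 1, 2, 0, 1, 2], 0, [2, 0, 1, 2, 0, 1, 0, 2, 1, 2, 0, 1, 2], 0),
  ([2, 0, 2, 1, 2, 0, 1, 0, 2, 1, 2, 0, 1, 0], 2, [0, 2, 1, 2, 0, 1, 0, 2, 1, 2, 0, 1, 0], 2),
  ([2, 0, 2, 1, 2, 1, 2, 0, 1, 0, 2, 0, 1, 0], 2, [0, 2, 1, 2, 1, 2, 0, 1, 0, 2, 0, 1, 0], 2),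
  ([2, 1, 2, 1, 2, 0, 1, 2, 0, 1, 2, 0, 2, 1], 0, [1, 2, 1, 2, 0, 1, 2, 0, 1, 2, 0, 2, 1], 0),
  ([0, 1, 0, 2, 1, 2, 1, 2, 0, 1, 0, 2, 0, 1, 0], 2, [1, 0, 2, 1, 2, 1, 2, 0, 1, 2, 0, 1, 0], 2),
  ([2, 0, 1, 2, 1, 2, 1, 0, 2, 1, 2, 0, 1, 0], 2, [1, 0, 2, 1, 2, 1, 2, 0, 1, 0, 2, 0, 1, 0], 2)]

/-- The relators. -/
def rels : List (List Nat) := [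
  [0, 0],
  [1, 1],
  [2, 2],
  [3, 3],
  [0, 1, 0, 1, 0, 1],
  [0, 2, 0, 2, 0, 2, 0, 2],
  [1, 3, 1, 3, 1, 3, 1, 3],
  [1, 2, 1, 2, 1, 2, 1, 2, 1, 2, 1, 2],
  [2, 0, 1, 2, 1, 0, 2, 0, 1, 2, 1, 0],
  [2, 1, 0, 3, 0, 1, 2, 1, 0, 3, 0, 1],
  [1, 0, 1, 0, 2, 0, 1, 0, 1, 0, 1, 2, 1, 0],
  [1, 0, 1, 0, 3, 0, 1, 0, 1, 0, 1, 3, 1, 0],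
  [0, 1, 0, 3, 1, 3, 0, 1, 0, 1, 0, 3, 1, 3, 0, 1],
  [1, 0, 1, 2, 0, 2, 1, 0, 1, 0, 1, 2, 0, 2, 1, 0],
  [2, 0, 1, 0, 3, 0, 1, 0, 2, 0, 1, 0, 3, 0, 1, 0],
  [2, 0, 2, 1, 2, 1, 2, 0, 2, 0, 2, 1, 2, 1, 2, 0],
  [2, 1, 0, 2, 3, 2, 0, 1, 2, 1, 0, 2, 3, 2, 0, 1],
  [2, 1, 0, 3, 2, 3, 0, 1, 2, 1, 0, 3, 2, 3, 0, 1],
  [3, 0, 3, 1, 2, 1, 3, 0, 3, 2, 3, 2, 1, 2, 3, 2],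
  [0, 2, 0, 2, 0, 3, 0, 2, 0, 2, 0, 2, 0, 2, 3, 2, 0, 2],
  [0, 2, 0, 2, 1, 0, 1, 2, 0, 2, 0, 2, 0, 2, 1, 2, 0, 2],
  [1, 0, 1, 0, 2, 1, 2, 0, 1, 0, 1, 0, 1, 2, 1, 2, 1, 0],
  [1, 0, 1, 0, 2, 3, 2, 0, 1, 0, 1, 0, 1, 2, 3, 2, 1, 0],
  [1, 0, 1, 0, 3, 0, 3, 0, 1, 0, 1, 0, 1, 3, 0, 3, 1, 0],
  [1, 0, 1, 0, 3, 2, 3, 0, 1, 0, 1, 0, 1, 3, 2, 3, 1, 0],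
  [1, 2, 1, 2, 3, 2, 1, 2, 1, 2, 3, 2, 1, 2, 1, 2, 3, 2],
  [1, 3, 0, 2, 0, 3, 0, 2, 0, 3, 1, 3, 2, 1, 3, 1, 2, 3],
  [1, 3, 1, 3, 0, 3, 1, 3, 1, 3, 1, 3, 1, 0, 1, 3, 1, 3],
  [1, 3, 1, 3, 1, 2, 1, 3, 1, 3, 1, 3, 1, 3, 2, 3, 1, 3],
  [0, 1, 0, 2, 1, 2, 1, 2, 0, 1, 0, 1, 0, 2, 1, 2, 1, 2, 0, 1],
  [0, 1, 0, 3, 1, 0, 1, 3, 0, 1, 0, 3, 0, 1, 0, 3, 0, 1, 0, 3],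
  [0, 2, 1, 0, 3, 1, 3, 0, 1, 2, 0, 2, 1, 0, 3, 1, 3, 0, 1, 2],
  [0, 2, 3, 1, 2, 1, 2, 1, 3, 2, 0, 2, 3, 1, 2, 1, 2, 1, 3, 2],
  [1, 0, 1, 3, 1, 0, 1, 3, 1, 0, 1, 3, 0, 1, 0, 3, 0, 1, 0, 3],
  [2, 0, 1, 2, 0, 3, 0, 2, 1, 0, 2, 0, 1, 2, 0, 3, 0, 2, 1, 0],
  [2, 1, 0, 2, 1, 2, 1, 2, 0, 1, 2, 3, 1, 3, 1, 2, 1, 3, 1, 3],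
  [2, 1, 0, 2, 1, 3, 1, 2, 0, 1, 2, 1, 0, 2, 1, 3, 1, 2, 0, 1],
  [2, 1, 0, 2, 3, 2, 3, 2, 0, 1, 2, 1, 0, 2, 3, 2, 3, 2, 0, 1],
  [2, 1, 0, 3, 2, 3, 2, 3, 0, 1, 2, 1, 0, 3, 2, 3, 2, 3, 0, 1],
  [2, 3, 2, 3, 2, 3, 2, 3, 2, 3, 2, 3, 2, 3, 2, 3, 2, 3, 2, 3],
  [0, 1, 2, 1, 2, 0, 2, 1, 2, 1, 0, 2, 0, 1, 2, 1, 0, 1, 2, 1, 0, 2],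
  [0, 2, 0, 1, 0, 2, 1, 2, 0, 1, 0, 2, 0, 2, 1, 2, 3, 1, 3, 2, 1, 2],
  [0, 2, 0, 2, 0, 1, 3, 1, 0, 2, 0, 2, 0, 2, 0, 2, 1, 3, 1, 2, 0, 2],
  [0, 2, 0, 2, 0, 3, 0, 3, 0, 2, 0, 2, 0, 2, 0, 2, 3, 0, 3, 2, 0, 2],
  [0, 2, 0, 2, 0, 3, 1, 3, 0, 2, 0, 2, 0, 2, 0, 2, 3, 1, 3, 2, 0, 2],
  [0, 2, 0, 2, 0, 3, 2, 3, 0, 2, 0, 2, 0, 2, 0, 2, 3, 2, 3, 2, 0, 2],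
  [0, 3, 1, 3, 0, 2, 1, 2, 0, 3, 1, 3, 0, 3, 2, 3, 2, 3, 2, 3, 2, 3],
  [1, 0, 1, 0, 2, 0, 3, 0, 2, 0, 1, 0, 1, 0, 1, 2, 0, 3, 0, 2, 1, 0],
  [1, 0, 1, 0, 2, 1, 0, 1, 2, 0, 1, 0, 1, 0, 1, 2, 1, 0, 1, 2, 1, 0],
  [1, 0, 1, 0, 2, 1, 3, 1, 2, 0, 1, 0, 1, 0, 1, 2, 1, 3, 1, 2, 1, 0],
  [1, 0, 1, 0, 2, 3, 0, 3, 2, 0, 1, 0, 1, 0, 1, 2, 3, 0, 3, 2, 1, 0],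
  [1, 0, 1, 0, 2, 3, 1, 3, 2, 0, 1, 0, 1, 0, 1, 2, 3, 1, 3, 2, 1, 0],
  [1, 0, 1, 0, 2, 3, 2, 3, 2, 0, 1, 0, 1, 0, 1, 2, 3, 2, 3, 2, 1, 0],
  [1, 0, 1, 0, 3, 0, 2, 0, 3, 0, 1, 0, 1, 0, 1, 3, 0, 2, 0, 3, 1, 0],
  [1, 0, 1, 0, 3, 0, 3, 0, 3, 0, 1, 0, 1, 0, 1, 3, 0, 3, 0, 3, 1, 0],
  [1, 0, 1, 0, 3, 1, 2, 1, 3, 0, 1, 0, 1, 0, 1, 3, 1, 2, 1, 3, 1, 0],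
  [1, 0, 1, 0, 3, 2, 0, 2, 3, 0, 1, 0, 1, 0, 1, 3, 2, 0, 2, 3, 1, 0],
  [1, 0, 1, 0, 3, 2, 1, 2, 3, 0, 1, 0, 1, 0, 1, 3, 2, 1, 2, 3, 1, 0],
  [1, 0, 1, 0, 3, 2, 3, 2, 3, 0, 1, 0, 1, 0, 1, 3, 2, 3, 2, 3, 1, 0],
  [1, 0, 2, 0, 1, 2, 0, 2, 1, 0, 2, 0, 1, 2, 1, 0, 2, 1, 2, 0, 1, 2],
  [1, 0, 3, 0, 1, 2, 0, 2, 1, 0, 3, 0, 1, 2, 1, 0, 3, 1, 3, 0, 1, 2],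
  [1, 2, 1, 2, 1, 3, 1, 2, 1, 2, 1, 2, 1, 3, 2, 1, 2, 1, 2, 3, 1, 2],
  [1, 3, 1, 0, 2, 0, 3, 0, 2, 0, 1, 3, 1, 3, 1, 2, 1, 3, 1, 2, 1, 3],
  [1, 3, 1, 3, 0, 2, 0, 3, 1, 3, 1, 3, 1, 3, 1, 0, 2, 0, 1, 3, 1, 3],
  [1, 3, 1, 3, 0, 3, 0, 3, 1, 3, 1, 3, 1, 3, 1, 0, 3, 0, 1, 3, 1, 3],
  [1, 3, 1, 3, 1, 2, 0, 2, 1, 3, 1, 3, 1, 3, 1, 3, 2, 0, 2, 3, 1, 3],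
  [1, 3, 1, 3, 1, 2, 1, 2, 1, 3, 1, 3, 1, 3, 1, 3, 2, 1, 2, 3, 1, 3],
  [1, 3, 1, 3, 1, 2, 3, 2, 1, 3, 1, 3, 1, 3, 1, 3, 2, 3, 2, 3, 1, 3],
  [2, 0, 1, 2, 3, 1, 3, 2, 1, 0, 2, 0, 2, 1, 0, 2, 1, 2, 0, 1, 2, 0],
  [2, 0, 3, 1, 0, 2, 1, 2, 0, 1, 3, 0, 2, 0, 3, 1, 2, 3, 2, 1, 3, 0],
  [3, 0, 1, 2, 0, 3, 1, 3, 0, 2, 1, 0, 3, 1, 3, 0, 3, 1, 3, 0, 3, 1],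
  [0, 1, 0, 2, 0, 3, 1, 3, 0, 2, 0, 1, 0, 2, 0, 2, 1, 2, 0, 2, 1, 2, 0, 2],
  [0, 1, 0, 2, 3, 1, 0, 1, 3, 2, 0, 1, 0, 3, 0, 1, 0, 2, 3, 2, 0, 1, 0, 3],
  [0, 1, 2, 0, 1, 0, 2, 0, 1, 0, 2, 1, 0, 2, 0, 3, 1, 3, 2, 3, 1, 3, 0, 2],
  [0, 1, 2, 0, 3, 1, 0, 1, 3, 0, 2, 1, 0, 3, 0, 1, 2, 0, 3, 0, 2, 1, 0, 3],
  [0, 1, 2, 1, 0, 3, 0, 3, 0, 1, 2, 1, 0, 3, 0, 1, 2, 1, 0, 1, 2, 1, 0, 3],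
  [0, 2, 0, 3, 1, 2, 1, 2, 1, 3, 0, 2, 0, 2, 0, 3, 1, 2, 1, 2, 1, 3, 0, 2],
  [0, 2, 0, 3, 2, 3, 2, 3, 2, 3, 0, 2, 0, 2, 3, 1, 2, 3, 2, 3, 2, 1, 3, 2],
  [0, 2, 1, 0, 2, 1, 0, 1, 2, 0, 1, 2, 0, 3, 2, 3, 1, 0, 2, 0, 1, 3, 2, 3],
  [0, 2, 1, 2, 0, 1, 3, 1, 0, 2, 1, 2, 0, 3, 2, 3, 2, 1, 3, 1, 2, 3, 2, 3],
  [0, 3, 0, 3, 0, 3, 2, 3, 0, 3, 0, 3, 0, 3, 2, 3, 0, 3, 0, 3, 0, 3, 2, 3],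
  [0, 3, 2, 1, 2, 0, 3, 0, 2, 1, 2, 3, 0, 3, 2, 3, 2, 3, 1, 3, 2, 3, 2, 3],
  [1, 0, 1, 2, 0, 3, 1, 3, 0, 2, 1, 0, 1, 2, 0, 2, 1, 2, 0, 2, 1, 2, 0, 2],
  [1, 0, 1, 2, 3, 1, 0, 1, 3, 2, 1, 0, 1, 3, 0, 1, 0, 2, 3, 2, 0, 1, 0, 3],
  [1, 0, 2, 0, 1, 2, 1, 2, 1, 0, 2, 0, 1, 2, 1, 0, 2, 1, 0, 1, 2, 0, 1, 2],
  [1, 0, 2, 0, 1, 2, 3, 2, 1, 0, 2, 0, 1, 3, 2, 3, 0, 2, 1, 2, 0, 3, 2, 3],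
  [1, 0, 2, 1, 2, 0, 3, 0, 2, 1, 2, 0, 1, 2, 1, 2, 0, 1, 3, 1, 0, 2, 1, 2],
  [1, 0, 3, 0, 1, 2, 1, 2, 1, 0, 3, 0, 1, 2, 1, 0, 3, 1, 0, 1, 3, 0, 1, 2],
  [1, 0, 3, 0, 2, 1, 2, 1, 2, 0, 3, 0, 1, 2, 1, 0, 3, 0, 2, 0, 3, 0, 1, 2],
  [1, 2, 0, 1, 3, 2, 1, 2, 3, 1, 0, 2, 1, 3, 1, 3, 2, 3, 0, 3, 2, 3, 1, 3],
  [1, 2, 1, 2, 3, 2, 0, 2, 3, 2, 1, 2, 1, 2, 1, 2, 3, 2, 0, 2, 3, 2, 1, 2],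
  [1, 2, 3, 0, 3, 0, 2, 0, 3, 0, 3, 2, 1, 3, 0, 2, 0, 3, 1, 3, 0, 2, 0, 3],
  [1, 2, 3, 1, 0, 2, 3, 2, 0, 1, 3, 2, 1, 3, 2, 3, 0, 3, 1, 3, 0, 3, 2, 3],
  [1, 2, 3, 1, 3, 0, 3, 0, 3, 1, 3, 2, 1, 2, 3, 1, 3, 2, 3, 2, 3, 1, 3, 2],
  [1, 3, 0, 1, 3, 1, 0, 1, 3, 1, 0, 3, 1, 3, 1, 3, 0, 1, 3, 1, 0, 3, 1, 3],
  [1, 3, 1, 2, 3, 2, 3, 2, 3, 2, 1, 3, 1, 3, 2, 1, 3, 1, 2, 1, 3, 1, 2, 3],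
  [1, 3, 1, 3, 2, 1, 2, 1, 2, 3, 1, 3, 1, 3, 1, 3, 2, 1, 2, 1, 2, 3, 1, 3],
  [2, 0, 1, 0, 2, 0, 3, 0, 2, 0, 1, 0, 2, 1, 2, 0, 2, 1, 3, 1, 2, 0, 2, 1],
  [2, 0, 1, 0, 2, 3, 1, 3, 2, 0, 1, 0, 2, 3, 1, 3, 2, 1, 0, 1, 2, 3, 1, 3],
  [2, 0, 1, 0, 3, 0, 2, 0, 3, 0, 1, 0, 2, 0, 1, 0, 3, 0, 2, 0, 3, 0, 1, 0],
  [2, 0, 1, 0, 3, 1, 2, 1, 3, 0, 1, 0, 2, 0, 1, 0, 3, 1, 2, 1, 3, 0, 1, 0],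
  [2, 0, 1, 2, 0, 1, 3, 1, 0, 2, 1, 0, 2, 0, 1, 2, 0, 1, 3, 1, 0, 2, 1, 0],
  [2, 0, 2, 0, 1, 0, 2, 0, 1, 0, 2, 0, 2, 0, 2, 0, 1, 0, 2, 0, 1, 0, 2, 0],
  [2, 0, 2, 0, 1, 2, 0, 2, 1, 0, 2, 0, 2, 1, 0, 2, 0, 3, 1, 3, 0, 2, 0, 1],
  [2, 0, 2, 0, 1, 2, 1, 2, 1, 0, 2, 0, 2, 0, 2, 0, 1, 2, 1, 2, 1, 0, 2, 0],
  [2, 0, 2, 1, 2, 0, 3, 0, 2, 1, 2, 0, 2, 0, 2, 1, 2, 0, 3, 0, 2, 1, 2, 0],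
  [2, 0, 2, 3, 2, 3, 2, 3, 2, 3, 2, 0, 2, 0, 3, 1, 2, 3, 2, 3, 2, 1, 3, 0],
  [2, 1, 0, 2, 0, 1, 3, 1, 0, 2, 0, 1, 2, 3, 2, 3, 0, 2, 1, 2, 0, 3, 2, 3],
  [2, 1, 0, 2, 3, 2, 3, 2, 3, 2, 0, 1, 2, 1, 0, 2, 3, 2, 3, 2, 3, 2, 0, 1],
  [2, 1, 0, 3, 0, 2, 1, 2, 0, 3, 0, 1, 2, 1, 0, 3, 0, 2, 1, 2, 0, 3, 0, 1],
  [2, 1, 0, 3, 1, 0, 2, 0, 1, 3, 0, 1, 2, 1, 0, 3, 1, 0, 2, 0, 1, 3, 0, 1],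
  [2, 1, 0, 3, 2, 1, 3, 1, 2, 3, 0, 1, 2, 1, 0, 3, 2, 1, 3, 1, 2, 3, 0, 1],
  [2, 1, 0, 3, 2, 3, 2, 3, 2, 3, 0, 1, 2, 1, 0, 3, 2, 3, 2, 3, 2, 3, 0, 1],
  [2, 1, 2, 0, 2, 1, 0, 1, 2, 0, 2, 1, 2, 1, 2, 0, 2, 1, 0, 1, 2, 0, 2, 1],
  [2, 1, 2, 1, 2, 0, 3, 0, 2, 1, 2, 1, 2, 1, 2, 1, 2, 0, 3, 0, 2, 1, 2, 1],
  [2, 1, 2, 3, 1, 3, 2, 3, 1, 3, 2, 1, 2, 1, 2, 3, 1, 3, 2, 3, 1, 3, 2, 1],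
  [2, 3, 1, 3, 1, 2, 0, 2, 1, 3, 1, 3, 2, 3, 1, 3, 1, 2, 0, 2, 1, 3, 1, 3],
  [2, 3, 2, 3, 2, 1, 3, 1, 2, 3, 2, 3, 2, 3, 2, 3, 2, 1, 3, 1, 2, 3, 2, 3],
  [3, 0, 2, 1, 3, 1, 0, 1, 3, 1, 2, 0, 3, 1, 3, 2, 3, 0, 3, 0, 3, 2, 3, 1],
  [3, 0, 3, 0, 3, 0, 2, 0, 3, 0, 3, 0, 3, 2, 3, 0, 2, 3, 2, 3, 2, 0, 3, 2],
  [3, 0, 3, 0, 3, 2, 0, 2, 3, 0, 3, 0, 3, 2, 0, 2, 3, 0, 3, 0, 3, 2, 0, 2],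
  [3, 0, 3, 2, 3, 1, 0, 1, 3, 2, 3, 0, 3, 1, 2, 0, 3, 0, 3, 0, 3, 0, 2, 1],
  [3, 1, 2, 1, 3, 1, 2, 1, 3, 1, 2, 1, 3, 1, 3, 2, 3, 2, 3, 2, 3, 2, 3, 1],
  [3, 1, 2, 3, 0, 2, 1, 2, 0, 3, 2, 1, 3, 2, 1, 2, 0, 1, 3, 1, 0, 2, 1, 2],
  [3, 1, 3, 0, 2, 3, 1, 3, 2, 0, 3, 1, 3, 2, 1, 2, 1, 2, 0, 2, 1, 2, 1, 2],
  [3, 1, 3, 1, 0, 3, 1, 3, 0, 1, 3, 1, 3, 2, 0, 2, 1, 2, 0, 2, 1, 2, 0, 2],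
  [3, 1, 3, 1, 2, 3, 0, 3, 2, 1, 3, 1, 3, 2, 0, 1, 3, 2, 1, 2, 3, 1, 0, 2],
  [0, 1, 0, 2, 1, 2, 0, 2, 1, 2, 0, 1, 0, 1, 2, 0, 1, 2, 1, 0, 1, 2, 1, 0, 2, 1],
  [0, 1, 0, 2, 1, 2, 3, 2, 1, 2, 0, 1, 0, 1, 0, 2, 3, 2, 1, 2, 1, 2, 3, 2, 0, 1],
  [0, 1, 0, 3, 0, 2, 0, 3, 0, 2, 0, 3, 0, 1, 0, 1, 0, 3, 2, 1, 3, 1, 2, 3, 0, 1],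
  [0, 1, 0, 3, 1, 3, 0, 3, 1, 3, 0, 1, 0, 1, 0, 3, 1, 3, 1, 0, 1, 3, 1, 3, 0, 1],
  [0, 1, 0, 3, 1, 3, 1, 2, 1, 3, 1, 3, 0, 1, 0, 1, 0, 3, 1, 3, 2, 3, 1, 3, 0, 1],
  [0, 1, 2, 0, 1, 2, 3, 2, 1, 0, 2, 1, 0, 3, 1, 3, 2, 0, 2, 3, 2, 0, 2, 3, 1, 3],
  [0, 1, 2, 1, 0, 2, 0, 3, 0, 2, 0, 1, 2, 1, 0, 2, 0, 1, 2, 1, 3, 1, 2, 1, 0, 2],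
  [0, 1, 2, 1, 0, 3, 0, 3, 0, 3, 0, 1, 2, 1, 0, 3, 0, 1, 2, 1, 3, 1, 2, 1, 0, 3],
  [0, 1, 2, 1, 3, 1, 2, 1, 3, 1, 2, 1, 0, 2, 3, 2, 3, 2, 3, 1, 3, 2, 3, 2, 3, 2],
  [0, 1, 2, 3, 1, 3, 2, 0, 2, 3, 1, 3, 2, 1, 0, 2, 1, 2, 0, 2, 1, 2, 0, 2, 1, 2],
  [0, 1, 2, 3, 1, 3, 2, 3, 1, 3, 2, 1, 0, 2, 1, 0, 3, 1, 3, 2, 3, 1, 3, 0, 1, 2],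
  [0, 1, 2, 3, 2, 1, 3, 1, 2, 3, 2, 1, 0, 2, 0, 3, 1, 2, 1, 3, 1, 2, 1, 3, 0, 2],
  [0, 1, 3, 1, 2, 3, 1, 2, 1, 3, 2, 1, 3, 1, 0, 2, 3, 0, 3, 0, 3, 0, 3, 0, 3, 2],
  [0, 2, 0, 1, 3, 2, 3, 0, 3, 2, 3, 1, 0, 2, 0, 2, 3, 1, 0, 2, 3, 2, 0, 1, 3, 2],
  [0, 2, 0, 2, 0, 1, 2, 0, 2, 1, 0, 2, 0, 2, 0, 2, 0, 2, 1, 2, 0, 2, 1, 2, 0, 2],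
  [0, 2, 0, 2, 0, 1, 2, 3, 2, 1, 0, 2, 0, 2, 0, 2, 0, 2, 1, 2, 3, 2, 1, 2, 0, 2],
  [0, 2, 0, 2, 0, 1, 3, 0, 3, 1, 0, 2, 0, 2, 0, 2, 0, 2, 1, 3, 0, 3, 1, 2, 0, 2],
  [0, 2, 0, 2, 0, 1, 3, 2, 3, 1, 0, 2, 0, 2, 0, 2, 0, 2, 1, 3, 2, 3, 1, 2, 0, 2],
  [0, 2, 0, 2, 0, 3, 0, 2, 0, 3, 0, 2, 0, 2, 0, 2, 0, 2, 3, 0, 2, 0, 3, 2, 0, 2],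
  [0, 2, 0, 2, 0, 3, 0, 3, 0, 3, 0, 2, 0, 2, 0, 2, 0, 2, 3, 0, 3, 0, 3, 2, 0, 2],
  [0, 2, 0, 2, 0, 3, 1, 0, 1, 3, 0, 2, 0, 2, 0, 2, 0, 2, 3, 1, 0, 1, 3, 2, 0, 2],
  [0, 2, 0, 2, 0, 3, 1, 2, 1, 3, 0, 2, 0, 2, 0, 2, 0, 2, 3, 1, 2, 1, 3, 2, 0, 2],
  [0, 2, 0, 2, 0, 3, 2, 0, 2, 3, 0, 2, 0, 2, 0, 2, 0, 2, 3, 2, 0, 2, 3, 2, 0, 2],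
  [0, 2, 0, 2, 0, 3, 2, 1, 2, 3, 0, 2, 0, 2, 0, 2, 0, 2, 3, 2, 1, 2, 3, 2, 0, 2],
  [0, 2, 0, 2, 0, 3, 2, 3, 2, 3, 0, 2, 0, 2, 0, 2, 0, 2, 3, 2, 3, 2, 3, 2, 0, 2],
  [0, 2, 0, 2, 1, 2, 1, 0, 1, 2, 1, 2, 0, 2, 0, 2, 1, 2, 1, 2, 0, 2, 1, 2, 1, 2],
  [0, 2, 0, 3, 1, 2, 3, 0, 3, 2, 1, 3, 0, 2, 0, 2, 3, 0, 3, 2, 3, 2, 3, 0, 3, 2],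
  [0, 2, 1, 2, 0, 1, 2, 1, 2, 1, 0, 2, 1, 2, 0, 3, 1, 2, 3, 2, 3, 2, 3, 2, 1, 3],
  [0, 2, 1, 2, 0, 2, 3, 2, 0, 2, 1, 2, 0, 2, 3, 2, 1, 3, 0, 2, 0, 3, 1, 2, 3, 2],
  [0, 2, 1, 3, 1, 0, 3, 0, 3, 0, 1, 3, 1, 2, 0, 3, 1, 0, 3, 2, 3, 2, 3, 0, 1, 3],
  [0, 3, 0, 2, 0, 1, 2, 0, 2, 1, 0, 2, 0, 3, 0, 3, 1, 2, 3, 1, 2, 1, 3, 2, 1, 3],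
  [1, 0, 1, 0, 2, 0, 1, 3, 1, 0, 2, 0, 1, 0, 1, 0, 1, 2, 0, 1, 3, 1, 0, 2, 1, 0],
  [1, 0, 1, 0, 2, 0, 3, 0, 3, 0, 2, 0, 1, 0, 1, 0, 1, 2, 0, 3, 0, 3, 0, 2, 1, 0],
  [1, 0, 1, 0, 2, 0, 3, 2, 3, 0, 2, 0, 1, 0, 1, 0, 1, 2, 0, 3, 2, 3, 0, 2, 1, 0],
  [1, 0, 1, 0, 2, 1, 3, 0, 3, 1, 2, 0, 1, 0, 1, 0, 1, 2, 1, 3, 0, 3, 1, 2, 1, 0],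
  [1, 0, 1, 0, 2, 1, 3, 2, 3, 1, 2, 0, 1, 0, 1, 0, 1, 2, 1, 3, 2, 3, 1, 2, 1, 0],
  [1, 0, 1, 0, 2, 3, 0, 2, 0, 3, 2, 0, 1, 0, 1, 0, 1, 2, 3, 0, 2, 0, 3, 2, 1, 0],
  [1, 0, 1, 0, 2, 3, 0, 3, 0, 3, 2, 0, 1, 0, 1, 0, 1, 2, 3, 0, 3, 0, 3, 2, 1, 0],
  [1, 0, 1, 0, 2, 3, 1, 2, 1, 3, 2, 0, 1, 0, 1, 0, 1, 2, 3, 1, 2, 1, 3, 2, 1, 0],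
  [1, 0, 1, 0, 2, 3, 2, 0, 2, 3, 2, 0, 1, 0, 1, 0, 1, 2, 3, 2, 0, 2, 3, 2, 1, 0],
  [1, 0, 1, 0, 2, 3, 2, 1, 2, 3, 2, 0, 1, 0, 1, 0, 1, 2, 3, 2, 1, 2, 3, 2, 1, 0],
  [1, 0, 1, 0, 2, 3, 2, 3, 2, 3, 2, 0, 1, 0, 1, 0, 1, 2, 3, 2, 3, 2, 3, 2, 1, 0],
  [1, 0, 1, 0, 3, 0, 1, 3, 1, 0, 3, 0, 1, 0, 1, 0, 1, 3, 0, 1, 3, 1, 0, 3, 1, 0],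
  [1, 0, 1, 0, 3, 0, 2, 1, 2, 0, 3, 0, 1, 0, 1, 0, 1, 3, 0, 2, 1, 2, 0, 3, 1, 0],
  [1, 0, 1, 0, 3, 0, 2, 3, 2, 0, 3, 0, 1, 0, 1, 0, 1, 3, 0, 2, 3, 2, 0, 3, 1, 0],
  [1, 0, 1, 0, 3, 0, 3, 0, 3, 0, 3, 0, 1, 0, 1, 0, 1, 3, 0, 3, 0, 3, 0, 3, 1, 0],
  [1, 0, 1, 0, 3, 0, 3, 1, 3, 0, 3, 0, 1, 0, 1, 0, 1, 3, 0, 3, 1, 3, 0, 3, 1, 0],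
  [1, 0, 1, 0, 3, 0, 3, 2, 3, 0, 3, 0, 1, 0, 1, 0, 1, 3, 0, 3, 2, 3, 0, 3, 1, 0],
  [1, 0, 1, 0, 3, 1, 0, 2, 0, 1, 3, 0, 1, 0, 1, 0, 1, 3, 1, 0, 2, 0, 1, 3, 1, 0],
  [1, 0, 1, 0, 3, 1, 0, 3, 0, 1, 3, 0, 1, 0, 1, 0, 1, 3, 1, 0, 3, 0, 1, 3, 1, 0],
  [1, 0, 1, 0, 3, 1, 2, 0, 2, 1, 3, 0, 1, 0, 1, 0, 1, 3, 1, 2, 0, 2, 1, 3, 1, 0],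
  [1, 0, 1, 0, 3, 1, 2, 1, 2, 1, 3, 0, 1, 0, 1, 0, 1, 3, 1, 2, 1, 2, 1, 3, 1, 0],
  [1, 0, 1, 0, 3, 1, 2, 3, 2, 1, 3, 0, 1, 0, 1, 0, 1, 3, 1, 2, 3, 2, 1, 3, 1, 0],
  [1, 0, 1, 0, 3, 2, 0, 3, 0, 2, 3, 0, 1, 0, 1, 0, 1, 3, 2, 0, 3, 0, 2, 3, 1, 0],
  [1, 0, 1, 0, 3, 2, 1, 0, 1, 2, 3, 0, 1, 0, 1, 0, 1, 3, 2, 1, 0, 1, 2, 3, 1, 0],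
  [1, 0, 1, 0, 3, 2, 1, 2, 1, 2, 3, 0, 1, 0, 1, 0, 1, 3, 2, 1, 2, 1, 2, 3, 1, 0],
  [1, 0, 1, 0, 3, 2, 3, 0, 3, 2, 3, 0, 1, 0, 1, 0, 1, 3, 2, 3, 0, 3, 2, 3, 1, 0],
  [1, 0, 1, 0, 3, 2, 3, 1, 3, 2, 3, 0, 1, 0, 1, 0, 1, 3, 2, 3, 1, 3, 2, 3, 1, 0],
  [1, 0, 1, 0, 3, 2, 3, 2, 3, 2, 3, 0, 1, 0, 1, 0, 1, 3, 2, 3, 2, 3, 2, 3, 1, 0],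
  [1, 0, 1, 2, 0, 1, 2, 0, 2, 1, 0, 2, 1, 0, 1, 0, 2, 1, 0, 2, 1, 2, 0, 1, 2, 0],
  [1, 0, 1, 2, 0, 1, 2, 1, 2, 1, 0, 2, 1, 0, 1, 3, 2, 3, 1, 0, 2, 0, 1, 3, 2, 3],
  [1, 0, 1, 2, 0, 2, 0, 3, 0, 2, 0, 2, 1, 0, 1, 0, 1, 2, 0, 2, 3, 2, 0, 2, 1, 0],
  [1, 0, 1, 2, 0, 2, 1, 0, 1, 2, 0, 2, 1, 0, 1, 0, 1, 2, 0, 2, 1, 2, 0, 2, 1, 0],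
  [1, 0, 1, 2, 1, 2, 0, 3, 0, 2, 1, 2, 1, 0, 1, 3, 2, 3, 2, 1, 3, 1, 2, 3, 2, 3],
  [1, 0, 2, 0, 1, 3, 2, 3, 1, 0, 2, 0, 1, 3, 0, 3, 1, 3, 2, 0, 2, 3, 1, 3, 0, 3],
  [1, 0, 2, 3, 0, 1, 2, 0, 2, 1, 0, 3, 2, 0, 1, 2, 1, 0, 2, 3, 1, 3, 2, 0, 1, 2],
  [1, 0, 3, 0, 1, 2, 3, 2, 1, 0, 3, 0, 1, 2, 1, 0, 3, 0, 1, 3, 1, 0, 3, 0, 1, 2],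
  [1, 0, 3, 0, 3, 2, 1, 0, 1, 2, 3, 0, 3, 0, 1, 2, 1, 3, 2, 1, 0, 1, 2, 3, 1, 2],
  [1, 0, 3, 2, 0, 1, 2, 0, 2, 1, 0, 2, 3, 0, 1, 2, 1, 0, 3, 2, 1, 2, 3, 0, 1, 2],
  [1, 0, 3, 2, 1, 3, 0, 3, 1, 2, 3, 0, 1, 2, 1, 2, 0, 3, 2, 0, 2, 3, 0, 2, 1, 2],
  [1, 2, 0, 1, 0, 2, 1, 2, 0, 1, 0, 2, 1, 2, 3, 0, 2, 3, 1, 0, 1, 3, 2, 0, 3, 2],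
  [1, 2, 0, 1, 0, 2, 1, 3, 1, 2, 0, 1, 0, 2, 1, 2, 0, 1, 2, 1, 3, 1, 2, 1, 0, 2],
  [1, 2, 1, 2, 1, 2, 0, 2, 1, 2, 1, 2, 1, 2, 1, 2, 1, 2, 1, 0, 1, 2, 1, 2, 1, 2],
  [1, 2, 3, 1, 0, 2, 1, 0, 1, 2, 0, 1, 3, 2, 1, 2, 3, 2, 1, 3, 2, 3, 1, 2, 3, 2],
  [1, 3, 1, 3, 0, 2, 1, 2, 0, 3, 1, 3, 1, 3, 1, 3, 1, 0, 2, 1, 2, 0, 1, 3, 1, 3],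
  [1, 3, 1, 3, 0, 2, 3, 2, 0, 3, 1, 3, 1, 3, 1, 3, 1, 0, 2, 3, 2, 0, 1, 3, 1, 3],
  [1, 3, 1, 3, 0, 3, 0, 3, 0, 3, 1, 3, 1, 3, 1, 3, 1, 0, 3, 0, 3, 0, 1, 3, 1, 3],
  [1, 3, 1, 3, 0, 3, 2, 3, 0, 3, 1, 3, 1, 3, 1, 3, 1, 0, 3, 2, 3, 0, 1, 3, 1, 3],
  [1, 3, 1, 3, 1, 2, 0, 3, 0, 2, 1, 3, 1, 3, 1, 3, 1, 3, 2, 0, 3, 0, 2, 3, 1, 3],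
  [1, 3, 1, 3, 1, 2, 1, 0, 1, 2, 1, 3, 1, 3, 1, 3, 1, 3, 2, 1, 0, 1, 2, 3, 1, 3],
  [1, 3, 1, 3, 1, 2, 3, 1, 3, 2, 1, 3, 1, 3, 1, 3, 1, 3, 2, 3, 1, 3, 2, 3, 1, 3],
  [1, 3, 1, 3, 1, 2, 3, 2, 3, 2, 1, 3, 1, 3, 1, 3, 1, 3, 2, 3, 2, 3, 2, 3, 1, 3],
  [1, 3, 2, 3, 0, 1, 2, 0, 2, 1, 0, 3, 2, 3, 1, 3, 2, 3, 1, 3, 0, 3, 1, 3, 2, 3],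
  [2, 0, 2, 1, 3, 1, 2, 0, 2, 1, 3, 1, 2, 0, 2, 3, 2, 1, 3, 2, 1, 2, 3, 1, 2, 3],
  [2, 0, 2, 1, 3, 2, 3, 0, 3, 2, 3, 1, 2, 0, 2, 0, 3, 1, 0, 2, 3, 2, 0, 1, 3, 0],
  [2, 0, 2, 3, 0, 1, 2, 0, 2, 1, 0, 3, 2, 0, 2, 1, 2, 3, 1, 3, 0, 3, 1, 3, 2, 1],
  [2, 0, 2, 3, 1, 0, 2, 1, 2, 0, 1, 3, 2, 0, 2, 0, 2, 3, 1, 2, 3, 2, 1, 3, 2, 0],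
  [2, 0, 2, 3, 1, 2, 3, 0, 3, 2, 1, 3, 2, 0, 2, 0, 3, 0, 3, 2, 3, 2, 3, 0, 3, 0],
  [2, 0, 2, 3, 1, 3, 2, 1, 2, 3, 1, 3, 2, 0, 2, 3, 2, 1, 3, 1, 2, 1, 3, 1, 2, 3],
  [2, 0, 3, 1, 3, 1, 2, 0, 2, 1, 3, 1, 3, 0, 2, 1, 3, 2, 3, 2, 3, 2, 3, 2, 3, 1],
  [2, 1, 0, 3, 1, 0, 2, 1, 2, 0, 1, 3, 0, 1, 2, 1, 2, 0, 1, 3, 2, 3, 1, 0, 2, 1],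
  [2, 1, 2, 0, 1, 2, 1, 0, 1, 2, 1, 0, 2, 1, 2, 3, 1, 3, 2, 3, 1, 3, 2, 3, 1, 3],
  [2, 1, 2, 0, 2, 0, 1, 3, 1, 0, 2, 0, 2, 1, 2, 3, 1, 3, 0, 1, 3, 1, 0, 3, 1, 3],
  [2, 1, 2, 0, 2, 3, 1, 3, 2, 0, 2, 1, 2, 1, 2, 3, 1, 3, 1, 0, 1, 3, 1, 3, 2, 1],
  [2, 1, 3, 0, 2, 1, 2, 0, 2, 1, 2, 0, 3, 1, 2, 3, 2, 0, 3, 0, 2, 0, 3, 0, 2, 3],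
  [2, 3, 2, 0, 3, 1, 2, 1, 3, 0, 2, 3, 2, 3, 2, 3, 0, 1, 2, 0, 2, 1, 0, 3, 2, 3],
  [3, 0, 1, 0, 3, 0, 2, 0, 3, 0, 1, 0, 3, 1, 2, 0, 3, 1, 2, 1, 2, 1, 3, 0, 2, 1],
  [3, 0, 1, 2, 0, 1, 2, 1, 2, 1, 0, 2, 1, 0, 3, 0, 2, 0, 1, 3, 2, 3, 1, 0, 2, 0],
  [3, 0, 1, 3, 2, 0, 3, 0, 2, 3, 1, 0, 3, 1, 3, 2, 3, 2, 3, 0, 3, 2, 3, 2, 3, 1],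
  [3, 0, 2, 1, 2, 0, 3, 2, 3, 0, 2, 1, 2, 0, 3, 1, 2, 1, 2, 0, 3, 0, 2, 1, 2, 1],
  [3, 0, 2, 1, 2, 1, 3, 2, 3, 1, 2, 1, 2, 0, 3, 0, 3, 1, 3, 0, 3, 0, 3, 1, 3, 0],
  [3, 0, 2, 3, 0, 3, 0, 2, 0, 3, 0, 3, 2, 0, 3, 2, 0, 3, 0, 1, 3, 1, 0, 3, 0, 2],
  [3, 0, 3, 0, 3, 0, 2, 1, 2, 0, 3, 0, 3, 0, 3, 2, 1, 3, 2, 1, 2, 1, 2, 3, 1, 2],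
  [3, 0, 3, 2, 0, 2, 1, 2, 0, 2, 3, 0, 3, 1, 0, 2, 3, 2, 1, 0, 1, 2, 3, 2, 0, 1],
  [3, 1, 0, 2, 3, 0, 3, 0, 3, 0, 3, 2, 0, 1, 3, 2, 0, 2, 0, 1, 3, 1, 0, 2, 0, 2],
  [3, 1, 0, 2, 3, 1, 0, 1, 3, 2, 0, 1, 3, 1, 0, 3, 1, 3, 1, 0, 1, 3, 1, 3, 0, 1],
  [3, 1, 0, 3, 1, 3, 2, 0, 2, 3, 1, 3, 0, 1, 3, 1, 2, 3, 1, 0, 2, 0, 1, 3, 2, 1],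
  [3, 1, 0, 3, 2, 0, 3, 2, 3, 0, 2, 3, 0, 1, 3, 1, 2, 3, 1, 0, 3, 0, 1, 3, 2, 1],
  [3, 1, 2, 1, 0, 2, 0, 3, 0, 2, 0, 1, 2, 1, 3, 1, 2, 3, 2, 1, 3, 1, 2, 3, 2, 1],
  [3, 1, 3, 0, 1, 2, 1, 2, 1, 0, 3, 1, 3, 2, 0, 3, 0, 1, 2, 0, 2, 1, 0, 3, 0, 2],
  [3, 1, 3, 0, 1, 2, 3, 2, 1, 0, 3, 1, 3, 2, 0, 1, 3, 2, 1, 2, 1, 2, 3, 1, 0, 2],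
  [3, 1, 3, 0, 3, 0, 3, 1, 3, 0, 3, 0, 3, 1, 3, 2, 1, 2, 1, 3, 2, 3, 1, 2, 1, 2],
  [0, 1, 0, 2, 0, 1, 0, 2, 0, 1, 0, 2, 0, 1, 0, 1, 2, 0, 3, 1, 3, 2, 3, 1, 3, 0, 2, 1],
  [0, 1, 0, 2, 0, 3, 1, 0, 1, 3, 0, 2, 0, 1, 0, 1, 3, 0, 1, 2, 0, 3, 0, 2, 1, 0, 3, 1],
  [0, 1, 0, 2, 1, 0, 3, 0, 3, 0, 1, 2, 0, 1, 0, 1, 3, 0, 1, 2, 1, 0, 1, 2, 1, 0, 3, 1],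
  [0, 1, 0, 2, 1, 3, 0, 2, 0, 3, 1, 2, 0, 1, 0, 2, 0, 1, 0, 3, 2, 3, 2, 3, 0, 1, 0, 2],
  [0, 1, 0, 2, 1, 3, 2, 0, 2, 3, 1, 2, 0, 1, 0, 1, 0, 2, 1, 3, 2, 0, 2, 3, 1, 2, 0, 1],
  [0, 1, 0, 2, 3, 0, 2, 3, 2, 0, 3, 2, 0, 1, 0, 3, 1, 0, 3, 0, 1, 3, 1, 0, 3, 0, 1, 3],
  [0, 1, 2, 0, 1, 0, 2, 3, 2, 0, 1, 0, 2, 1, 0, 1, 3, 2, 1, 3, 0, 2, 0, 3, 1, 2, 3, 1],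
  [0, 1, 2, 0, 1, 0, 3, 0, 3, 0, 1, 0, 2, 1, 0, 1, 3, 0, 1, 0, 2, 1, 2, 0, 1, 0, 3, 1],
  [0, 1, 2, 0, 2, 1, 3, 0, 3, 1, 2, 0, 2, 1, 0, 2, 1, 2, 3, 0, 1, 3, 1, 0, 3, 2, 1, 2],
  [0, 1, 2, 0, 2, 3, 1, 0, 1, 3, 2, 0, 2, 1, 0, 3, 0, 1, 2, 0, 2, 3, 2, 0, 2, 1, 0, 3],
  [0, 1, 2, 1, 0, 2, 3, 0, 3, 2, 0, 1, 2, 1, 0, 2, 3, 0, 1, 2, 1, 0, 1, 2, 1, 0, 3, 2],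
  [0, 1, 2, 1, 0, 3, 1, 2, 1, 3, 0, 1, 2, 1, 0, 3, 2, 0, 3, 1, 3, 2, 3, 1, 3, 0, 2, 3],
  [0, 1, 2, 1, 0, 3, 2, 0, 2, 3, 0, 1, 2, 1, 0, 3, 2, 0, 1, 2, 1, 0, 1, 2, 1, 0, 2, 3],
  [0, 1, 2, 3, 1, 3, 2, 1, 2, 3, 1, 3, 2, 1, 0, 2, 3, 1, 3, 0, 2, 1, 2, 0, 3, 1, 3, 2],
  [0, 1, 3, 0, 1, 0, 3, 2, 3, 0, 1, 0, 3, 1, 0, 1, 3, 0, 1, 0, 3, 2, 3, 0, 1, 0, 3, 1],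
  [0, 1, 3, 2, 0, 3, 0, 2, 0, 3, 0, 2, 3, 1, 0, 1, 3, 2, 0, 3, 0, 2, 0, 3, 0, 2, 3, 1],
  [0, 1, 3, 2, 3, 1, 3, 2, 3, 1, 3, 2, 3, 1, 0, 2, 1, 2, 3, 1, 2, 3, 2, 1, 3, 2, 1, 2],
  [0, 2, 0, 1, 2, 0, 2, 1, 2, 0, 2, 1, 0, 2, 0, 2, 1, 2, 1, 2, 3, 1, 3, 2, 1, 2, 1, 2],
  [0, 2, 0, 1, 2, 3, 2, 3, 2, 3, 2, 1, 0, 2, 0, 3, 1, 2, 0, 1, 0, 2, 0, 1, 0, 2, 1, 3],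
  [0, 2, 0, 1, 3, 2, 1, 2, 1, 2, 3, 1, 0, 2, 0, 2, 3, 0, 1, 3, 1, 0, 1, 3, 1, 0, 3, 2],
  [0, 2, 0, 2, 1, 3, 0, 2, 0, 3, 1, 2, 0, 2, 0, 3, 0, 1, 3, 0, 3, 1, 3, 0, 3, 1, 0, 3],
  [0, 2, 0, 2, 3, 1, 3, 2, 3, 1, 3, 2, 0, 2, 0, 2, 1, 2, 0, 1, 0, 2, 0, 1, 0, 2, 1, 2],
  [0, 2, 0, 3, 1, 0, 3, 1, 3, 0, 1, 3, 0, 2, 0, 2, 3, 0, 1, 0, 3, 0, 3, 0, 1, 0, 3, 2],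
  [0, 2, 0, 3, 1, 3, 1, 2, 1, 3, 1, 3, 0, 2, 0, 2, 0, 3, 1, 3, 1, 2, 1, 3, 1, 3, 0, 2],
  [0, 2, 0, 3, 1, 3, 2, 0, 2, 3, 1, 3, 0, 2, 0, 3, 1, 3, 0, 2, 1, 0, 1, 2, 0, 3, 1, 3],
  [0, 2, 1, 2, 0, 2, 3, 2, 3, 2, 0, 2, 1, 2, 0, 3, 1, 0, 2, 0, 1, 3, 1, 0, 2, 0, 1, 3],
  [0, 2, 3, 0, 1, 3, 2, 0, 2, 3, 1, 0, 3, 2, 0, 2, 3, 1, 0, 3, 2, 0, 2, 3, 0, 1, 3, 2],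
  [0, 2, 3, 1, 2, 3, 1, 0, 1, 3, 2, 1, 3, 2, 0, 3, 1, 2, 1, 2, 1, 0, 1, 2, 1, 2, 1, 3],
  [0, 2, 3, 1, 2, 3, 1, 2, 1, 3, 2, 1, 3, 2, 0, 3, 1, 3, 2, 3, 2, 0, 2, 3, 2, 3, 1, 3],
  [0, 2, 3, 2, 1, 3, 1, 0, 1, 3, 1, 2, 3, 2, 0, 3, 0, 2, 0, 3, 0, 3, 0, 3, 0, 2, 0, 3],
  [0, 3, 0, 2, 0, 3, 0, 2, 0, 3, 0, 2, 0, 3, 0, 3, 1, 3, 1, 0, 2, 1, 2, 0, 1, 3, 1, 3],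
  [0, 3, 0, 2, 1, 3, 2, 3, 2, 3, 1, 2, 0, 3, 0, 3, 2, 0, 3, 0, 3, 2, 3, 0, 3, 0, 2, 3],
  [0, 3, 0, 3, 0, 1, 2, 1, 2, 1, 0, 3, 0, 3, 0, 3, 2, 3, 0, 3, 2, 3, 2, 3, 0, 3, 2, 3],
  [0, 3, 1, 2, 0, 1, 2, 3, 2, 1, 0, 2, 1, 3, 0, 3, 1, 2, 0, 1, 2, 3, 2, 1, 0, 2, 1, 3],
  [0, 3, 1, 3, 0, 2, 1, 3, 1, 2, 0, 3, 1, 3, 0, 3, 1, 3, 1, 0, 2, 3, 2, 0, 1, 3, 1, 3],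
  [0, 3, 1, 3, 2, 0, 2, 1, 2, 0, 2, 3, 1, 3, 0, 3, 1, 3, 2, 0, 3, 1, 3, 0, 2, 3, 1, 3],
  [1, 0, 1, 2, 0, 1, 2, 1, 2, 1, 0, 2, 1, 0, 1, 0, 2, 1, 0, 2, 1, 0, 1, 2, 0, 1, 2, 0],
  [1, 0, 1, 2, 1, 3, 0, 2, 0, 3, 1, 2, 1, 0, 1, 2, 0, 1, 0, 3, 2, 3, 2, 3, 0, 1, 0, 2],
  [1, 0, 1, 2, 3, 0, 2, 3, 2, 0, 3, 2, 1, 0, 1, 3, 1, 0, 3, 0, 1, 3, 1, 0, 3, 0, 1, 3],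
  [1, 0, 1, 2, 3, 1, 2, 1, 2, 1, 3, 2, 1, 0, 1, 0, 1, 2, 3, 1, 2, 1, 2, 1, 3, 2, 1, 0],
  [1, 0, 1, 3, 0, 1, 2, 1, 2, 1, 0, 3, 1, 0, 1, 0, 2, 1, 0, 3, 1, 0, 1, 3, 0, 1, 2, 0],
  [1, 0, 1, 3, 0, 2, 1, 2, 1, 2, 0, 3, 1, 0, 1, 0, 2, 1, 0, 3, 0, 2, 0, 3, 0, 1, 2, 0],
  [1, 0, 1, 3, 2, 3, 2, 3, 2, 3, 2, 3, 1, 0, 1, 3, 0, 2, 0, 3, 0, 2, 0, 3, 0, 2, 0, 3],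
  [1, 0, 2, 0, 1, 0, 2, 3, 2, 0, 1, 0, 2, 0, 1, 0, 3, 2, 1, 3, 0, 2, 0, 3, 1, 2, 3, 0],
  [1, 0, 2, 0, 1, 0, 3, 0, 3, 0, 1, 0, 2, 0, 1, 0, 3, 0, 1, 0, 2, 1, 2, 0, 1, 0, 3, 0],
  [1, 0, 2, 0, 3, 2, 1, 2, 1, 2, 3, 0, 2, 0, 1, 3, 1, 3, 2, 1, 2, 3, 2, 1, 2, 3, 1, 3],
  [1, 0, 2, 3, 0, 1, 2, 1, 2, 1, 0, 3, 2, 0, 1, 2, 1, 0, 2, 3, 1, 0, 1, 3, 2, 0, 1, 2],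
  [1, 0, 2, 3, 0, 2, 1, 2, 1, 2, 0, 3, 2, 0, 1, 2, 1, 0, 2, 3, 0, 2, 0, 3, 2, 0, 1, 2],
  [1, 0, 2, 3, 1, 2, 1, 0, 1, 2, 1, 3, 2, 0, 1, 2, 0, 3, 1, 2, 3, 1, 3, 2, 1, 3, 0, 2],
  [1, 0, 2, 3, 1, 3, 2, 1, 2, 3, 1, 3, 2, 0, 1, 2, 0, 1, 0, 2, 1, 0, 1, 2, 0, 1, 0, 2],
  [1, 0, 2, 3, 2, 1, 3, 2, 3, 1, 2, 3, 2, 0, 1, 2, 3, 2, 3, 1, 2, 0, 2, 1, 3, 2, 3, 2],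
  [1, 0, 3, 0, 1, 0, 3, 2, 3, 0, 1, 0, 3, 0, 1, 0, 3, 0, 1, 0, 3, 2, 3, 0, 1, 0, 3, 0],
  [1, 0, 3, 0, 1, 2, 3, 1, 3, 2, 1, 0, 3, 0, 1, 2, 1, 0, 3, 0, 3, 1, 3, 0, 3, 0, 1, 2],
  [1, 0, 3, 0, 2, 3, 1, 0, 1, 3, 2, 0, 3, 0, 1, 3, 1, 3, 0, 2, 1, 0, 1, 2, 0, 3, 1, 3],
  [1, 0, 3, 0, 3, 1, 3, 2, 3, 1, 3, 0, 3, 0, 1, 2, 1, 0, 3, 2, 1, 2, 1, 2, 3, 0, 1, 2],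
  [1, 0, 3, 2, 0, 1, 2, 1, 2, 1, 0, 2, 3, 0, 1, 2, 1, 0, 3, 2, 1, 0, 1, 2, 3, 0, 1, 2],
  [1, 0, 3, 2, 0, 3, 0, 2, 0, 3, 0, 2, 3, 0, 1, 0, 3, 2, 0, 3, 0, 2, 0, 3, 0, 2, 3, 0],
  [1, 0, 3, 2, 0, 3, 2, 1, 2, 3, 0, 2, 3, 0, 1, 3, 2, 0, 3, 0, 2, 3, 2, 0, 3, 0, 2, 3],
  [1, 0, 3, 2, 1, 2, 1, 0, 1, 2, 1, 2, 3, 0, 1, 2, 0, 1, 0, 3, 2, 1, 2, 3, 0, 1, 0, 2],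
  [1, 0, 3, 2, 3, 0, 2, 1, 2, 0, 3, 2, 3, 0, 1, 3, 1, 3, 2, 0, 2, 3, 2, 0, 2, 3, 1, 3],
  [1, 2, 0, 1, 2, 0, 3, 1, 3, 0, 2, 1, 0, 2, 1, 2, 1, 0, 3, 1, 3, 0, 3, 1, 3, 0, 1, 2],
  [1, 2, 0, 1, 3, 2, 1, 2, 1, 2, 3, 1, 0, 2, 1, 3, 0, 1, 2, 3, 1, 0, 1, 3, 2, 1, 0, 3],
  [1, 2, 0, 2, 3, 2, 1, 3, 1, 2, 3, 2, 0, 2, 1, 2, 0, 2, 3, 2, 1, 3, 1, 2, 3, 2, 0, 2],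
  [1, 2, 0, 3, 1, 3, 0, 2, 0, 3, 1, 3, 0, 2, 1, 2, 0, 3, 1, 3, 0, 2, 0, 3, 1, 3, 0, 2],
  [1, 2, 0, 3, 1, 3, 1, 2, 1, 3, 1, 3, 0, 2, 1, 2, 0, 3, 1, 3, 1, 2, 1, 3, 1, 3, 0, 2],
  [1, 2, 1, 2, 1, 2, 3, 1, 3, 2, 1, 2, 1, 2, 1, 2, 1, 2, 1, 2, 3, 1, 3, 2, 1, 2, 1, 2],
  [1, 2, 1, 3, 0, 2, 3, 2, 3, 2, 0, 3, 1, 2, 1, 2, 3, 1, 2, 1, 2, 0, 2, 1, 2, 1, 3, 2],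
  [1, 2, 3, 1, 0, 2, 3, 2, 3, 2, 0, 1, 3, 2, 1, 3, 0, 2, 3, 2, 1, 0, 1, 2, 3, 2, 0, 3],
  [1, 2, 3, 1, 3, 0, 3, 2, 3, 0, 3, 1, 3, 2, 1, 3, 0, 1, 3, 0, 3, 1, 3, 0, 3, 1, 0, 3],
  [1, 2, 3, 2, 0, 3, 2, 3, 2, 3, 0, 2, 3, 2, 1, 3, 2, 1, 2, 3, 2, 1, 2, 3, 2, 1, 2, 3],
  [1, 2, 3, 2, 3, 1, 0, 2, 0, 1, 3, 2, 3, 2, 1, 2, 3, 2, 3, 1, 0, 2, 0, 1, 3, 2, 3, 2],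
  [1, 2, 3, 2, 3, 2, 0, 3, 0, 2, 3, 2, 3, 2, 1, 3, 2, 3, 2, 3, 0, 3, 0, 3, 2, 3, 2, 3],
  [1, 3, 0, 1, 3, 0, 3, 0, 3, 0, 3, 1, 0, 3, 1, 3, 1, 2, 3, 0, 2, 3, 2, 0, 3, 2, 1, 3],
  [1, 3, 0, 2, 0, 1, 2, 1, 2, 1, 0, 2, 0, 3, 1, 3, 0, 2, 1, 2, 1, 0, 1, 2, 1, 2, 0, 3],
  [1, 3, 0, 2, 0, 1, 2, 3, 2, 1, 0, 2, 0, 3, 1, 3, 0, 2, 1, 2, 0, 3, 0, 2, 1, 2, 0, 3],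
  [1, 3, 0, 2, 3, 1, 3, 2, 3, 1, 3, 2, 0, 3, 1, 3, 2, 0, 3, 1, 3, 2, 3, 1, 3, 0, 2, 3],
  [1, 3, 1, 2, 0, 1, 0, 2, 0, 1, 0, 2, 1, 3, 1, 3, 2, 3, 1, 3, 0, 2, 0, 3, 1, 3, 2, 3],
  [1, 3, 2, 0, 3, 0, 3, 2, 3, 0, 3, 0, 2, 3, 1, 3, 2, 3, 2, 3, 0, 2, 0, 3, 2, 3, 2, 3],
  [2, 0, 1, 0, 3, 0, 3, 1, 3, 0, 3, 0, 1, 0, 2, 1, 0, 3, 1, 0, 3, 1, 3, 0, 1, 3, 0, 1],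
  [2, 0, 1, 0, 3, 1, 2, 3, 2, 1, 3, 0, 1, 0, 2, 0, 1, 0, 3, 1, 2, 3, 2, 1, 3, 0, 1, 0],
  [2, 0, 1, 0, 3, 2, 1, 2, 1, 2, 3, 0, 1, 0, 2, 3, 0, 2, 3, 0, 3, 0, 3, 0, 3, 2, 0, 3],
  [2, 0, 1, 2, 0, 1, 3, 2, 3, 1, 0, 2, 1, 0, 2, 0, 1, 2, 0, 1, 3, 2, 3, 1, 0, 2, 1, 0],
  [2, 0, 1, 2, 0, 2, 1, 0, 1, 2, 0, 2, 1, 0, 2, 3, 0, 2, 0, 3, 0, 2, 0, 3, 0, 2, 0, 3],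
  [2, 0, 1, 2, 0, 3, 0, 2, 0, 3, 0, 2, 1, 0, 2, 0, 1, 2, 0, 3, 0, 2, 0, 3, 0, 2, 1, 0],
  [2, 0, 1, 2, 0, 3, 1, 2, 1, 3, 0, 2, 1, 0, 2, 0, 1, 2, 0, 3, 1, 2, 1, 3, 0, 2, 1, 0],
  [2, 0, 1, 2, 1, 2, 3, 1, 3, 2, 1, 2, 1, 0, 2, 1, 2, 3, 1, 3, 2, 0, 2, 3, 1, 3, 2, 1],
  [2, 0, 1, 2, 1, 2, 3, 2, 3, 2, 1, 2, 1, 0, 2, 0, 3, 2, 3, 1, 2, 3, 2, 1, 3, 2, 3, 0],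
  [2, 0, 1, 2, 3, 0, 3, 0, 3, 0, 3, 2, 1, 0, 2, 1, 0, 3, 1, 2, 0, 3, 0, 2, 1, 3, 0, 1],
  [2, 0, 1, 3, 2, 3, 2, 3, 2, 3, 2, 3, 1, 0, 2, 0, 1, 3, 2, 3, 2, 3, 2, 3, 2, 3, 1, 0],
  [2, 0, 2, 0, 1, 0, 2, 3, 2, 0, 1, 0, 2, 0, 2, 0, 2, 0, 1, 0, 2, 3, 2, 0, 1, 0, 2, 0],
  [2, 0, 2, 0, 1, 0, 3, 2, 3, 0, 1, 0, 2, 0, 2, 0, 2, 0, 1, 0, 3, 2, 3, 0, 1, 0, 2, 0],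
  [2, 0, 2, 0, 1, 3, 0, 2, 0, 3, 1, 0, 2, 0, 2, 3, 0, 1, 3, 0, 3, 1, 3, 0, 3, 1, 0, 3],
  [2, 0, 2, 1, 0, 3, 0, 2, 0, 3, 0, 1, 2, 0, 2, 0, 2, 1, 0, 3, 0, 2, 0, 3, 0, 1, 2, 0],
  [2, 0, 2, 1, 0, 3, 1, 2, 1, 3, 0, 1, 2, 0, 2, 0, 2, 1, 0, 3, 1, 2, 1, 3, 0, 1, 2, 0],
  [2, 0, 2, 1, 2, 0, 3, 2, 3, 0, 2, 1, 2, 0, 2, 3, 1, 2, 1, 2, 3, 1, 3, 2, 1, 2, 1, 3],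
  [2, 0, 2, 1, 3, 1, 2, 3, 2, 1, 3, 1, 2, 0, 2, 3, 2, 0, 1, 3, 0, 3, 0, 3, 1, 0, 2, 3],
  [2, 0, 2, 1, 3, 2, 1, 2, 1, 2, 3, 1, 2, 0, 2, 0, 3, 0, 1, 3, 1, 0, 1, 3, 1, 0, 3, 0],
  [2, 0, 2, 3, 1, 0, 3, 1, 3, 0, 1, 3, 2, 0, 2, 0, 3, 0, 1, 0, 3, 0, 3, 0, 1, 0, 3, 0],
  [2, 0, 2, 3, 2, 0, 2, 1, 2, 0, 2, 3, 2, 0, 2, 1, 2, 0, 1, 3, 0, 2, 0, 3, 1, 0, 2, 1],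
  [2, 0, 3, 0, 2, 1, 2, 3, 2, 1, 2, 0, 3, 0, 2, 1, 2, 3, 1, 2, 1, 3, 1, 2, 1, 3, 2, 1],
  [2, 0, 3, 1, 0, 2, 0, 3, 0, 2, 0, 1, 3, 0, 2, 1, 2, 0, 3, 2, 1, 3, 1, 2, 3, 0, 2, 1],
  [2, 0, 3, 1, 3, 1, 2, 1, 2, 1, 3, 1, 3, 0, 2, 1, 0, 3, 1, 3, 2, 0, 2, 3, 1, 3, 0, 1],
  [2, 0, 3, 1, 3, 2, 1, 2, 1, 2, 3, 1, 3, 0, 2, 1, 2, 0, 3, 1, 3, 2, 3, 1, 3, 0, 2, 1],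
  [2, 0, 3, 1, 3, 2, 3, 0, 3, 2, 3, 1, 3, 0, 2, 3, 1, 2, 3, 0, 2, 3, 2, 0, 3, 2, 1, 3],
  [2, 1, 0, 2, 0, 1, 0, 2, 0, 1, 0, 2, 0, 1, 2, 1, 0, 2, 0, 1, 0, 2, 0, 1, 0, 2, 0, 1],
  [2, 1, 0, 2, 0, 3, 1, 2, 1, 3, 0, 2, 0, 1, 2, 1, 3, 2, 1, 2, 0, 3, 0, 2, 1, 2, 3, 1],
  [2, 1, 0, 2, 1, 2, 1, 0, 1, 2, 1, 2, 0, 1, 2, 1, 0, 3, 1, 3, 2, 1, 2, 3, 1, 3, 0, 1],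
  [2, 1, 0, 2, 1, 3, 0, 2, 0, 3, 1, 2, 0, 1, 2, 1, 0, 2, 1, 3, 0, 2, 0, 3, 1, 2, 0, 1],
  [2, 1, 0, 2, 1, 3, 1, 2, 1, 3, 1, 2, 0, 1, 2, 1, 0, 2, 1, 3, 1, 2, 1, 3, 1, 2, 0, 1],
  [2, 1, 0, 2, 3, 0, 2, 1, 2, 0, 3, 2, 0, 1, 2, 1, 0, 2, 3, 0, 2, 1, 2, 0, 3, 2, 0, 1],
  [2, 1, 0, 2, 3, 1, 0, 2, 0, 1, 3, 2, 0, 1, 2, 1, 0, 2, 3, 1, 0, 2, 0, 1, 3, 2, 0, 1],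
  [2, 1, 0, 2, 3, 2, 1, 3, 1, 2, 3, 2, 0, 1, 2, 1, 0, 2, 3, 2, 1, 3, 1, 2, 3, 2, 0, 1],
  [2, 1, 0, 2, 3, 2, 3, 2, 3, 2, 3, 2, 0, 1, 2, 1, 0, 2, 3, 2, 3, 2, 3, 2, 3, 2, 0, 1],
  [2, 1, 0, 3, 1, 3, 0, 2, 0, 3, 1, 3, 0, 1, 2, 1, 0, 3, 1, 3, 0, 2, 0, 3, 1, 3, 0, 1],
  [2, 1, 0, 3, 1, 3, 1, 2, 1, 3, 1, 3, 0, 1, 2, 1, 0, 3, 1, 3, 1, 2, 1, 3, 1, 3, 0, 1],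
  [2, 1, 0, 3, 1, 3, 2, 3, 2, 3, 1, 3, 0, 1, 2, 3, 1, 2, 1, 3, 0, 2, 0, 3, 1, 2, 1, 3],
  [2, 1, 0, 3, 2, 0, 2, 1, 2, 0, 2, 3, 0, 1, 2, 1, 0, 3, 2, 0, 2, 1, 2, 0, 2, 3, 0, 1],
  [2, 1, 0, 3, 2, 1, 2, 3, 2, 1, 2, 3, 0, 1, 2, 3, 1, 2, 1, 3, 0, 3, 0, 3, 1, 2, 1, 3],
  [2, 1, 0, 3, 2, 3, 1, 2, 1, 3, 2, 3, 0, 1, 2, 3, 2, 0, 3, 1, 3, 0, 3, 1, 3, 0, 2, 3],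
  [2, 1, 2, 0, 1, 2, 3, 2, 3, 2, 1, 0, 2, 1, 2, 1, 2, 0, 1, 3, 2, 3, 2, 3, 1, 0, 2, 1],
  [2, 1, 2, 0, 2, 0, 3, 1, 3, 0, 2, 0, 2, 1, 2, 1, 2, 1, 2, 0, 2, 1, 2, 0, 2, 1, 2, 1],
  [2, 1, 2, 0, 2, 0, 3, 2, 3, 0, 2, 0, 2, 1, 2, 1, 3, 2, 3, 1, 2, 3, 2, 1, 3, 2, 3, 1],
  [2, 1, 2, 1, 2, 0, 2, 3, 2, 0, 2, 1, 2, 1, 2, 1, 2, 1, 2, 0, 2, 3, 2, 0, 2, 1, 2, 1],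
  [2, 1, 2, 1, 2, 0, 3, 2, 3, 0, 2, 1, 2, 1, 2, 1, 2, 1, 2, 0, 3, 2, 3, 0, 2, 1, 2, 1],
  [2, 1, 2, 3, 1, 3, 2, 1, 2, 3, 1, 3, 2, 1, 2, 1, 2, 3, 1, 3, 2, 1, 2, 3, 1, 3, 2, 1],
  [2, 1, 3, 0, 1, 0, 2, 1, 2, 0, 1, 0, 3, 1, 2, 3, 0, 2, 0, 3, 2, 0, 2, 3, 0, 2, 0, 3],
  [2, 1, 3, 0, 2, 0, 3, 2, 3, 0, 2, 0, 3, 1, 2, 3, 2, 3, 2, 1, 3, 2, 3, 1, 2, 3, 2, 3],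
  [2, 1, 3, 0, 2, 3, 1, 0, 1, 3, 2, 0, 3, 1, 2, 3, 1, 3, 2, 0, 3, 1, 3, 0, 2, 3, 1, 3],
  [2, 1, 3, 0, 3, 0, 2, 1, 2, 0, 3, 0, 3, 1, 2, 1, 3, 2, 1, 2, 1, 0, 1, 2, 1, 2, 3, 1],
  [2, 3, 0, 1, 0, 2, 1, 0, 1, 2, 0, 1, 0, 3, 2, 3, 1, 3, 0, 3, 1, 0, 1, 3, 0, 3, 1, 3],
  [2, 3, 0, 1, 3, 2, 3, 0, 3, 2, 3, 1, 0, 3, 2, 3, 1, 2, 3, 0, 3, 1, 3, 0, 3, 2, 1, 3],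
  [2, 3, 0, 2, 1, 2, 0, 3, 0, 2, 1, 2, 0, 3, 2, 3, 0, 2, 3, 1, 3, 2, 3, 1, 3, 2, 0, 3],
  [2, 3, 1, 0, 2, 0, 1, 3, 1, 0, 2, 0, 1, 3, 2, 3, 2, 3, 2, 0, 2, 1, 2, 0, 2, 3, 2, 3],
  [2, 3, 1, 2, 3, 1, 2, 3, 2, 1, 3, 2, 1, 3, 2, 3, 1, 2, 3, 1, 2, 3, 2, 1, 3, 2, 1, 3],
  [2, 3, 1, 3, 1, 0, 2, 1, 2, 0, 1, 3, 1, 3, 2, 3, 1, 3, 1, 0, 2, 1, 2, 0, 1, 3, 1, 3],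
  [2, 3, 1, 3, 1, 2, 3, 2, 3, 2, 1, 3, 1, 3, 2, 3, 2, 1, 3, 1, 2, 3, 2, 1, 3, 1, 2, 3],
  [2, 3, 1, 3, 2, 0, 2, 3, 2, 0, 2, 3, 1, 3, 2, 3, 1, 3, 2, 0, 2, 3, 2, 0, 2, 3, 1, 3],
  [2, 3, 2, 1, 0, 2, 0, 3, 0, 2, 0, 1, 2, 3, 2, 3, 2, 1, 0, 2, 0, 3, 0, 2, 0, 1, 2, 3],
  [2, 3, 2, 3, 0, 2, 1, 2, 1, 2, 0, 3, 2, 3, 2, 3, 2, 3, 2, 3, 0, 2, 0, 3, 2, 3, 2, 3],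
  [3, 0, 1, 0, 3, 0, 3, 0, 3, 0, 3, 0, 1, 0, 3, 1, 3, 2, 3, 0, 2, 3, 2, 0, 3, 2, 3, 1],
  [3, 0, 1, 2, 0, 2, 3, 1, 3, 2, 0, 2, 1, 0, 3, 1, 3, 0, 1, 2, 3, 1, 3, 2, 1, 0, 3, 1],
  [3, 0, 1, 2, 1, 2, 3, 1, 3, 2, 1, 2, 1, 0, 3, 1, 3, 2, 1, 2, 1, 0, 1, 2, 1, 2, 3, 1],
  [3, 0, 1, 2, 3, 1, 2, 0, 2, 1, 3, 2, 1, 0, 3, 1, 2, 0, 1, 3, 0, 2, 0, 3, 1, 0, 2, 1],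
  [3, 0, 1, 3, 2, 0, 3, 2, 3, 0, 2, 3, 1, 0, 3, 0, 2, 3, 1, 2, 1, 3, 1, 2, 1, 3, 2, 0],
  [3, 0, 1, 3, 2, 3, 2, 3, 2, 3, 2, 3, 1, 0, 3, 2, 3, 2, 0, 1, 0, 2, 0, 1, 0, 2, 3, 2],
  [3, 0, 2, 0, 1, 0, 2, 3, 2, 0, 1, 0, 2, 0, 3, 1, 3, 2, 0, 2, 1, 3, 1, 2, 0, 2, 3, 1],
  [3, 0, 2, 0, 1, 3, 2, 3, 2, 3, 1, 0, 2, 0, 3, 0, 2, 0, 1, 3, 2, 3, 2, 3, 1, 0, 2, 0],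
  [3, 0, 2, 0, 3, 2, 1, 2, 1, 2, 3, 0, 2, 0, 3, 1, 3, 2, 3, 2, 1, 2, 1, 2, 3, 2, 3, 1],
  [3, 0, 2, 1, 2, 0, 3, 1, 3, 0, 2, 1, 2, 0, 3, 1, 3, 2, 1, 0, 2, 1, 2, 0, 1, 2, 3, 1],
  [3, 0, 2, 1, 3, 1, 2, 1, 2, 1, 3, 1, 2, 0, 3, 1, 2, 3, 2, 0, 3, 2, 3, 0, 2, 3, 2, 1],
  [3, 0, 2, 3, 0, 1, 3, 0, 3, 1, 0, 3, 2, 0, 3, 1, 0, 2, 1, 2, 1, 3, 1, 2, 1, 2, 0, 1],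
  [3, 0, 2, 3, 1, 3, 1, 0, 1, 3, 1, 3, 2, 0, 3, 1, 3, 2, 0, 1, 2, 1, 2, 1, 0, 2, 3, 1],
  [3, 0, 2, 3, 1, 3, 2, 1, 2, 3, 1, 3, 2, 0, 3, 1, 3, 2, 1, 2, 3, 1, 3, 2, 1, 2, 3, 1],
  [3, 0, 2, 3, 2, 1, 3, 0, 3, 1, 2, 3, 2, 0, 3, 0, 3, 1, 2, 0, 2, 3, 2, 0, 2, 1, 3, 0],
  [3, 0, 3, 0, 2, 3, 1, 0, 1, 3, 2, 0, 3, 0, 3, 1, 3, 1, 0, 2, 1, 0, 1, 2, 0, 1, 3, 1],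
  [3, 0, 3, 1, 0, 3, 0, 3, 0, 3, 0, 1, 3, 0, 3, 2, 3, 2, 1, 2, 1, 0, 1, 2, 1, 2, 3, 2],
  [3, 0, 3, 1, 3, 1, 2, 1, 2, 1, 3, 1, 3, 0, 3, 1, 3, 2, 1, 0, 3, 1, 3, 0, 1, 2, 3, 1],
  [3, 0, 3, 2, 3, 0, 2, 1, 2, 0, 3, 2, 3, 0, 3, 1, 3, 1, 2, 0, 2, 3, 2, 0, 2, 1, 3, 1],
  [3, 0, 3, 2, 3, 1, 2, 3, 2, 1, 3, 2, 3, 0, 3, 1, 2, 1, 2, 3, 2, 1, 2, 3, 2, 1, 2, 1],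
  [3, 1, 0, 2, 0, 3, 0, 2, 0, 3, 0, 2, 0, 1, 3, 2, 0, 3, 1, 3, 2, 0, 2, 3, 1, 3, 0, 2],
  [3, 1, 0, 2, 0, 3, 1, 2, 1, 3, 0, 2, 0, 1, 3, 2, 1, 3, 1, 2, 3, 2, 3, 2, 1, 3, 1, 2],
  [0, 1, 2, 1, 0, 2, 1, 2, 1, 2, 0, 1, 2, 1, 0, 2, 0, 1, 2, 0, 1, 0, 2, 0, 1, 0, 2, 1, 0, 2],
  [0, 1, 2, 1, 2, 0, 2, 1, 2, 0, 2, 1, 2, 1, 0, 2, 0, 1, 2, 1, 2, 1, 0, 1, 2, 1, 2, 1, 0, 2],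
  [0, 2, 0, 2, 0, 1, 0, 2, 1, 2, 0, 1, 0, 2, 0, 2, 0, 2, 0, 2, 1, 0, 2, 1, 2, 0, 1, 2, 0, 2],
  [1, 0, 1, 0, 2, 0, 1, 0, 2, 0, 1, 0, 2, 0, 1, 0, 1, 0, 1, 2, 0, 1, 0, 2, 0, 1, 0, 2, 1, 0],
  [1, 0, 1, 0, 2, 1, 2, 1, 0, 1, 2, 1, 2, 0, 1, 0, 1, 0, 1, 2, 1, 2, 1, 0, 1, 2, 1, 2, 1, 0],
  [0, 1, 0, 2, 0, 1, 0, 2, 1, 2, 0, 1, 0, 2, 0, 1, 0, 2, 0, 2, 1, 2, 0, 2, 1, 2, 0, 2, 1, 2, 0, 2],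
  [0, 1, 2, 0, 1, 2, 0, 2, 1, 2, 0, 2, 1, 0, 2, 1, 0, 1, 2, 0, 1, 2, 0, 2, 1, 2, 0, 2, 1, 0, 2, 1],
  [0, 1, 2, 1, 0, 2, 1, 2, 0, 2, 1, 2, 0, 1, 2, 1, 0, 2, 0, 1, 2, 0, 1, 2, 0, 2, 1, 0, 2, 1, 0, 2],
  [0, 2, 0, 2, 1, 0, 2, 1, 2, 1, 2, 0, 1, 2, 0, 2, 0, 2, 0, 2, 1, 0, 2, 1, 2, 1, 2, 0, 1, 2, 0, 2],
  [1, 0, 1, 2, 0, 1, 0, 2, 1, 2, 0, 1, 0, 2, 1, 0, 1, 2, 0, 2, 1, 2, 0, 2, 1, 2, 0, 2, 1, 2, 0, 2],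
  [1, 0, 2, 0, 1, 2, 0, 2, 1, 2, 0, 2, 1, 0, 2, 0, 1, 0, 2, 0, 1, 2, 0, 2, 1, 2, 0, 2, 1, 0, 2, 0],
  [1, 0, 2, 1, 0, 2, 1, 2, 0, 2, 1, 2, 0, 1, 2, 0, 1, 2, 0, 1, 2, 0, 1, 2, 1, 2, 1, 0, 2, 1, 0, 2],
  [1, 2, 0, 2, 1, 0, 2, 1, 2, 1, 2, 0, 1, 2, 0, 2, 1, 2, 0, 2, 1, 0, 2, 1, 2, 1, 2, 0, 1, 2, 0, 2],
  [2, 0, 1, 2, 0, 1, 0, 2, 1, 2, 0, 1, 0, 2, 1, 0, 2, 0, 1, 2, 0, 1, 0, 2, 1, 2, 0, 1, 0, 2, 1, 0],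
  [2, 0, 2, 0, 1, 2, 0, 2, 1, 2, 0, 2, 1, 0, 2, 0, 2, 1, 0, 2, 0, 1, 0, 2, 1, 2, 0, 1, 0, 2, 0, 1],
  [2, 1, 0, 2, 1, 0, 2, 1, 2, 1, 2, 0, 1, 2, 0, 1, 2, 1, 0, 2, 1, 0, 2, 1, 2, 1, 2, 0, 1, 2, 0, 1],
  [2, 1, 2, 1, 2, 0, 1, 0, 2, 0, 1, 0, 2, 1, 2, 1, 2, 1, 2, 1, 2, 0, 1, 0, 2, 0, 1, 0, 2, 1, 2, 1],
  [0, 1, 0, 2, 1, 0, 2, 1, 2, 1, 2, 0, 1, 2, 0, 1, 0, 1, 2, 0, 1, 2, 0, 1, 0, 2, 0, 1, 0, 2, 1, 0, 2, 1],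
  [0, 1, 0, 2, 1, 2, 0, 2, 1, 2, 0, 2, 1, 2, 0, 1, 0, 1, 2, 0, 1, 2, 1, 2, 1, 0, 1, 2, 1, 2, 1, 0, 2, 1],
  [0, 1, 2, 0, 1, 2, 0, 1, 2, 0, 2, 1, 0, 2, 1, 0, 2, 1, 0, 2, 0, 1, 2, 0, 1, 2, 1, 2, 1, 0, 2, 1, 0, 2],
  [0, 1, 2, 0, 2, 1, 2, 1, 0, 1, 2, 1, 2, 0, 2, 1, 0, 2, 0, 1, 0, 2, 1, 2, 1, 0, 1, 2, 1, 2, 0, 1, 0, 2],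
  [0, 2, 0, 2, 0, 1, 0, 2, 1, 0, 1, 2, 0, 1, 0, 2, 0, 2, 0, 2, 0, 2, 1, 0, 2, 1, 0, 1, 2, 0, 1, 2, 0, 2],
  [0, 2, 0, 2, 1, 2, 0, 1, 0, 2, 0, 1, 0, 2, 1, 2, 0, 2, 0, 2, 1, 2, 1, 0, 2, 1, 2, 1, 2, 0, 1, 2, 1, 2],
  [0, 2, 0, 2, 1, 2, 1, 2, 1, 0, 1, 2, 1, 2, 1, 2, 0, 2, 0, 2, 1, 2, 1, 2, 0, 2, 1, 2, 0, 2, 1, 2, 1, 2],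
  [1, 0, 1, 2, 0, 2, 0, 1, 2, 0, 2, 1, 0, 2, 0, 2, 1, 0, 1, 0, 1, 2, 0, 2, 1, 2, 0, 2, 1, 2, 0, 2, 1, 0],
  [1, 0, 2, 1, 2, 0, 1, 2, 1, 2, 1, 0, 2, 1, 2, 0, 1, 2, 1, 2, 0, 1, 0, 2, 1, 0, 1, 2, 0, 1, 0, 2, 1, 2],
  [1, 0, 2, 1, 2, 1, 2, 1, 0, 1, 2, 1, 2, 1, 2, 0, 1, 2, 0, 1, 0, 2, 1, 2, 1, 0, 1, 2, 1, 2, 0, 1, 0, 2],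
  [1, 2, 1, 2, 0, 2, 0, 1, 2, 0, 2, 1, 0, 2, 0, 2, 1, 2, 1, 2, 1, 2, 1, 2, 0, 2, 1, 2, 0, 2, 1, 2, 1, 2],
  [0, 2, 0, 2, 1, 2, 0, 1, 2, 0, 2, 1, 0, 2, 1, 2, 0, 2, 0, 2, 1, 2, 1, 0, 2, 1, 2, 0, 2, 1, 2, 0, 1, 2, 1, 2],
  [1, 2, 0, 2, 1, 0, 2, 1, 2, 0, 2, 1, 2, 0, 1, 2, 0, 2, 1, 2, 0, 2, 1, 0, 2, 1, 2, 0, 2, 1, 2, 0, 1, 2, 0, 2],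
  [1, 2, 1, 2, 1, 2, 0, 1, 2, 0, 2, 1, 0, 2, 1, 2, 1, 2, 1, 2, 1, 2, 1, 2, 0, 1, 2, 0, 2, 1, 0, 2, 1, 2, 1, 2],
  [2, 0, 1, 2, 1, 2, 0, 1, 0, 2, 0, 1, 0, 2, 1, 2, 1, 0, 2, 0, 1, 2, 1, 2, 0, 1, 0, 2, 0, 1, 0, 2, 1, 2, 1, 0],
  [2, 0, 1, 2, 1, 2, 0, 1, 2, 1, 2, 1, 0, 2, 1, 2, 1, 0, 2, 0, 1, 2, 1, 2, 0, 1, 2, 1, 2, 1, 0, 2, 1, 2, 1, 0],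
  [2, 0, 2, 0, 1, 2, 0, 2, 1, 0, 1, 2, 0, 2, 1, 0, 2, 0, 2, 0, 2, 0, 1, 2, 0, 2, 1, 0, 1, 2, 0, 2, 1, 0, 2, 0],
  [2, 0, 2, 1, 2, 0, 1, 0, 2, 1, 2, 0, 1, 0, 2, 1, 2, 0, 2, 0, 2, 1, 2, 0, 1, 0, 2, 1, 2, 0, 1, 0, 2, 1, 2, 0],
  [2, 1, 2, 0, 1, 2, 0, 2, 1, 0, 1, 2, 0, 2, 1, 0, 2, 1, 2, 1, 2, 0, 1, 2, 0, 2, 1, 0, 1, 2, 0, 2, 1, 0, 2, 1],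
  [2, 1, 2, 1, 2, 1, 0, 2, 1, 2, 1, 2, 0, 1, 2, 1, 2, 1, 2, 1, 2, 1, 2, 1, 0, 2, 1, 2, 1, 2, 0, 1, 2, 1, 2, 1],
  [0, 1, 2, 1, 0, 2, 1, 2, 1, 0, 1, 2, 1, 2, 0, 1, 2, 1, 0, 2, 0, 1, 2, 0, 1, 0, 2, 1, 0, 1, 2, 0, 1, 0, 2, 1, 0, 2],
  [0, 1, 2, 1, 2, 0, 2, 1, 2, 0, 2, 1, 2, 0, 2, 1, 2, 1, 0, 2, 0, 1, 2, 1, 2, 0, 1, 2, 0, 2, 1, 0, 2, 1, 2, 1, 0, 2],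
  [0, 1, 2, 1, 2, 1, 0, 2, 1, 2, 1, 2, 0, 1, 2, 1, 2, 1, 0, 2, 1, 2, 0, 1, 2, 0, 1, 0, 2, 0, 1, 0, 2, 1, 0, 2, 1, 2],
  [0, 2, 0, 2, 1, 0, 2, 1, 2, 0, 2, 1, 2, 0, 1, 2, 0, 2, 0, 2, 0, 2, 1, 2, 0, 1, 2, 1, 0, 1, 2, 1, 0, 2, 1, 2, 0, 2],
  [0, 2, 0, 2, 1, 0, 2, 1, 2, 1, 0, 1, 2, 1, 2, 0, 1, 2, 0, 2, 0, 2, 1, 2, 0, 2, 1, 2, 1, 0, 1, 2, 1, 2, 0, 2, 1, 2],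
  [0, 2, 0, 2, 1, 2, 0, 1, 2, 1, 2, 1, 0, 2, 1, 2, 0, 2, 0, 2, 1, 2, 0, 1, 2, 0, 1, 2, 0, 2, 1, 0, 2, 1, 0, 2, 1, 2],
  [1, 0, 1, 0, 2, 0, 1, 0, 2, 1, 0, 1, 2, 0, 1, 0, 2, 0, 1, 0, 1, 0, 1, 2, 0, 1, 0, 2, 1, 0, 1, 2, 0, 1, 0, 2, 1, 0],
  [1, 0, 1, 0, 2, 1, 2, 0, 1, 0, 2, 0, 1, 0, 2, 1, 2, 0, 1, 0, 1, 0, 1, 2, 1, 2, 0, 1, 0, 2, 0, 1, 0, 2, 1, 2, 1, 0],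
  [1, 0, 1, 0, 2, 1, 2, 0, 1, 2, 0, 2, 1, 0, 2, 1, 2, 0, 1, 0, 1, 0, 1, 2, 1, 2, 0, 1, 2, 0, 2, 1, 0, 2, 1, 2, 1, 0],
  [1, 0, 1, 2, 0, 2, 0, 1, 0, 2, 1, 2, 0, 1, 0, 2, 0, 2, 1, 0, 1, 0, 1, 2, 0, 2, 1, 0, 2, 1, 2, 0, 1, 2, 0, 2, 1, 0],
  [1, 0, 1, 2, 1, 2, 0, 1, 2, 1, 2, 1, 0, 2, 1, 2, 1, 0, 1, 0, 2, 1, 2, 0, 1, 0, 2, 1, 0, 1, 2, 0, 1, 0, 2, 1, 2, 0],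
  [1, 0, 2, 0, 1, 2, 0, 2, 1, 0, 1, 2, 0, 2, 1, 0, 2, 0, 1, 2, 1, 0, 2, 0, 1, 0, 2, 1, 0, 1, 2, 0, 1, 0, 2, 0, 1, 2],
  [1, 2, 0, 2, 1, 2, 0, 1, 2, 1, 2, 1, 0, 2, 1, 2, 0, 2, 1, 2, 1, 2, 1, 2, 0, 1, 2, 1, 0, 1, 2, 1, 0, 2, 1, 2, 1, 2],
  [1, 2, 1, 2, 1, 2, 0, 1, 0, 2, 1, 2, 0, 1, 0, 2, 1, 2, 1, 2, 1, 2, 1, 2, 1, 2, 0, 1, 2, 1, 2, 1, 0, 2, 1, 2, 1, 2],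
  [0, 1, 2, 0, 1, 0, 2, 0, 1, 0, 2, 0, 1, 0, 2, 0, 1, 0, 2, 1, 0, 1, 2, 0, 1, 0, 2, 0, 1, 0, 2, 0, 1, 0, 2, 0, 1, 0, 2, 1],
  [0, 1, 2, 0, 2, 0, 1, 0, 2, 1, 0, 1, 2, 0, 1, 0, 2, 0, 2, 1, 0, 1, 2, 0, 2, 0, 1, 0, 2, 1, 0, 1, 2, 0, 1, 0, 2, 0, 2, 1],
  [0, 2, 0, 1, 2, 0, 2, 0, 1, 2, 0, 2, 1, 0, 2, 0, 2, 1, 0, 2, 0, 2, 1, 2, 0, 2, 0, 1, 0, 2, 1, 2, 0, 1, 0, 2, 0, 2, 1, 2],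
  [1, 0, 2, 0, 1, 0, 2, 0, 1, 0, 2, 0, 1, 0, 2, 0, 1, 0, 2, 0, 1, 0, 2, 0, 1, 0, 2, 0, 1, 0, 2, 0, 1, 0, 2, 0, 1, 0, 2, 0],
  [1, 2, 1, 2, 0, 2, 0, 1, 0, 2, 1, 2, 0, 1, 0, 2, 0, 2, 1, 2, 1, 2, 1, 2, 0, 2, 0, 1, 0, 2, 1, 2, 0, 1, 0, 2, 0, 2, 1, 2],
  [2, 0, 1, 2, 0, 2, 0, 1, 0, 2, 1, 2, 0, 1, 0, 2, 0, 2, 1, 0, 2, 0, 2, 1, 2, 0, 2, 0, 1, 2, 0, 2, 1, 0, 2, 0, 2, 1, 2, 0],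
  [2, 0, 2, 0, 1, 0, 2, 0, 1, 0, 2, 0, 1, 0, 2, 0, 1, 0, 2, 0, 2, 0, 2, 0, 1, 0, 2, 0, 1, 0, 2, 0, 1, 0, 2, 0, 1, 0, 2, 0],
  [2, 0, 2, 1, 2, 1, 2, 0, 1, 2, 1, 2, 1, 0, 2, 1, 2, 1, 2, 0, 2, 0, 2, 1, 2, 1, 2, 0, 1, 2, 1, 2, 1, 0, 2, 1, 2, 1, 2, 0],
  [2, 1, 2, 0, 2, 0, 1, 0, 2, 1, 0, 1, 2, 0, 1, 0, 2, 0, 2, 1, 2, 1, 2, 0, 2, 0, 1, 0, 2, 1, 0, 1, 2, 0, 1, 0, 2, 0, 2, 1],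
  [2, 1, 2, 1, 0, 2, 1, 2, 0, 2, 1, 2, 0, 2, 1, 2, 0, 1, 2, 1, 2, 1, 2, 1, 0, 2, 1, 2, 0, 2, 1, 2, 0, 2, 1, 2, 0, 1, 2, 1],
  [0, 1, 0, 2, 1, 0, 2, 1, 2, 1, 0, 1, 2, 1, 2, 0, 1, 2, 0, 1, 0, 1, 2, 0, 1, 2, 0, 1, 0, 2, 1, 0, 1, 2, 0, 1, 0, 2, 1, 0, 2, 1],
  [0, 1, 0, 2, 1, 2, 0, 2, 1, 2, 0, 2, 1, 2, 0, 2, 1, 2, 0, 1, 0, 1, 2, 0, 1, 2, 1, 2, 0, 1, 2, 0, 2, 1, 0, 2, 1, 2, 1, 0, 2, 1],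
  [0, 1, 2, 0, 2, 1, 2, 0, 1, 0, 2, 0, 1, 0, 2, 1, 2, 0, 2, 1, 0, 1, 2, 1, 2, 0, 1, 2, 0, 1, 0, 2, 0, 1, 0, 2, 1, 0, 2, 1, 2, 1],
  [0, 1, 2, 1, 0, 2, 1, 2, 0, 1, 2, 0, 2, 1, 0, 2, 1, 2, 0, 1, 2, 1, 0, 2, 0, 1, 2, 0, 2, 1, 0, 2, 1, 2, 0, 1, 2, 0, 2, 1, 0, 2],
  [0, 1, 2, 1, 0, 2, 1, 2, 0, 2, 1, 2, 0, 2, 1, 2, 0, 1, 2, 1, 0, 2, 0, 1, 2, 0, 1, 2, 0, 2, 1, 0, 1, 2, 0, 2, 1, 0, 2, 1, 0, 2],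
  [0, 1, 2, 1, 2, 0, 2, 1, 0, 2, 1, 2, 0, 1, 2, 0, 2, 1, 2, 1, 0, 2, 0, 1, 2, 1, 2, 0, 1, 0, 2, 1, 2, 0, 1, 0, 2, 1, 2, 1, 0, 2],
  [0, 1, 2, 1, 2, 0, 2, 1, 2, 1, 0, 1, 2, 1, 2, 0, 2, 1, 2, 1, 0, 2, 0, 1, 2, 1, 2, 0, 1, 2, 1, 0, 1, 2, 1, 0, 2, 1, 2, 1, 0, 2],
  [0, 2, 0, 2, 0, 1, 2, 0, 2, 1, 2, 0, 2, 1, 2, 0, 2, 1, 0, 2, 0, 2, 0, 2, 0, 2, 1, 2, 0, 2, 1, 2, 0, 2, 1, 2, 0, 2, 1, 2, 0, 2],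
  [0, 2, 0, 2, 1, 2, 0, 1, 0, 2, 1, 0, 1, 2, 0, 1, 0, 2, 1, 2, 0, 2, 0, 2, 1, 2, 1, 0, 2, 1, 2, 1, 0, 1, 2, 1, 2, 0, 1, 2, 1, 2],
  [0, 2, 0, 2, 1, 2, 1, 2, 0, 1, 2, 0, 2, 1, 0, 2, 1, 2, 1, 2, 0, 2, 0, 2, 1, 2, 1, 2, 0, 2, 1, 2, 0, 2, 1, 2, 0, 2, 1, 2, 1, 2],
  [1, 0, 1, 0, 2, 1, 2, 0, 1, 0, 2, 1, 2, 0, 1, 0, 2, 1, 2, 0, 1, 0, 1, 0, 1, 2, 1, 2, 0, 1, 0, 2, 1, 2, 0, 1, 0, 2, 1, 2, 1, 0],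
  [1, 0, 1, 0, 2, 1, 2, 0, 1, 2, 1, 0, 1, 2, 1, 0, 2, 1, 2, 0, 1, 0, 1, 0, 1, 2, 1, 2, 0, 1, 2, 1, 0, 1, 2, 1, 0, 2, 1, 2, 1, 0],
  [1, 0, 1, 2, 0, 1, 2, 0, 2, 1, 0, 1, 2, 0, 2, 1, 0, 2, 1, 0, 1, 0, 2, 1, 0, 2, 0, 1, 0, 2, 1, 0, 1, 2, 0, 1, 0, 2, 0, 1, 2, 0],
  [1, 0, 1, 2, 0, 2, 1, 2, 1, 2, 1, 0, 1, 2, 1, 2, 1, 2, 0, 2, 1, 0, 1, 0, 2, 1, 2, 0, 2, 0, 1, 2, 0, 2, 1, 0, 2, 0, 2, 1, 2, 0],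
  [1, 0, 2, 0, 1, 2, 0, 2, 1, 2, 0, 2, 1, 2, 0, 2, 1, 0, 2, 0, 1, 2, 1, 0, 2, 1, 2, 0, 1, 2, 1, 0, 1, 2, 1, 0, 2, 1, 2, 0, 1, 2],
  [1, 0, 2, 1, 0, 2, 1, 2, 0, 2, 1, 2, 0, 2, 1, 2, 0, 1, 2, 0, 1, 2, 1, 0, 2, 1, 0, 2, 1, 2, 1, 0, 1, 2, 1, 2, 0, 1, 2, 0, 1, 2],
  [1, 2, 0, 2, 1, 2, 0, 2, 1, 2, 0, 2, 1, 2, 0, 2, 1, 2, 0, 2, 1, 2, 1, 2, 0, 1, 2, 0, 2, 1, 2, 0, 2, 1, 2, 0, 2, 1, 0, 2, 1, 2],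
  [1, 2, 1, 2, 1, 2, 0, 2, 1, 2, 0, 2, 1, 2, 0, 2, 1, 2, 1, 2, 1, 2, 1, 2, 1, 2, 1, 0, 2, 1, 2, 0, 2, 1, 2, 0, 1, 2, 1, 2, 1, 2],
  [2, 0, 1, 0, 2, 1, 2, 0, 1, 0, 2, 1, 2, 0, 1, 0, 2, 1, 2, 0, 1, 0, 2, 0, 2, 1, 0, 2, 1, 2, 0, 2, 1, 2, 0, 2, 1, 2, 0, 1, 2, 0],
  [2, 0, 1, 2, 0, 2, 1, 2, 0, 1, 2, 0, 2, 1, 0, 2, 1, 2, 0, 2, 1, 0, 2, 0, 2, 1, 2, 0, 2, 1, 0, 2, 1, 2, 0, 1, 2, 0, 2, 1, 2, 0],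
  [2, 0, 2, 1, 2, 0, 1, 2, 1, 2, 1, 0, 1, 2, 1, 2, 1, 0, 2, 1, 2, 0, 2, 1, 0, 2, 1, 2, 0, 1, 0, 2, 1, 2, 0, 1, 0, 2, 1, 2, 0, 1],
  [2, 1, 2, 0, 2, 1, 2, 0, 1, 2, 0, 2, 1, 0, 2, 1, 2, 0, 2, 1, 2, 1, 2, 1, 0, 2, 1, 2, 0, 1, 2, 0, 2, 1, 0, 2, 1, 2, 0, 1, 2, 1],
  [0, 1, 0, 2, 1, 2, 1, 2, 0, 1, 2, 0, 2, 1, 0, 2, 1, 2, 1, 2, 0, 1, 0, 1, 0, 2, 1, 2, 1, 2, 0, 1, 2, 0, 2, 1, 0, 2, 1, 2, 1, 2, 0, 1],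
  [0, 1, 2, 0, 1, 2, 0, 2, 0, 1, 2, 0, 2, 1, 0, 2, 0, 2, 1, 0, 2, 1, 0, 1, 2, 0, 1, 2, 0, 2, 0, 1, 2, 0, 2, 1, 0, 2, 0, 2, 1, 0, 2, 1],
  [0, 1, 2, 0, 2, 1, 2, 0, 1, 2, 1, 0, 1, 2, 1, 0, 2, 1, 2, 0, 2, 1, 0, 1, 2, 0, 2, 1, 2, 0, 1, 2, 1, 0, 1, 2, 1, 0, 2, 1, 2, 0, 2, 1],
  [0, 1, 2, 1, 0, 2, 1, 2, 0, 1, 0, 2, 0, 1, 0, 2, 1, 2, 0, 1, 2, 1, 0, 2, 1, 2, 0, 1, 0, 2, 0, 1, 0, 2, 0, 1, 0, 2, 0, 1, 0, 2, 1, 2],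
  [0, 1, 2, 1, 2, 0, 1, 2, 1, 2, 1, 0, 1, 2, 1, 2, 1, 0, 2, 1, 2, 1, 0, 1, 2, 1, 2, 0, 1, 2, 1, 2, 1, 0, 1, 2, 1, 2, 1, 0, 2, 1, 2, 1],
  [1, 0, 1, 2, 0, 2, 1, 2, 0, 1, 2, 0, 2, 1, 0, 2, 1, 2, 0, 2, 1, 0, 1, 0, 1, 2, 1, 2, 1, 0, 2, 1, 2, 0, 2, 1, 2, 0, 1, 2, 1, 2, 1, 0],
  [1, 0, 2, 1, 2, 0, 1, 2, 1, 2, 1, 0, 1, 2, 1, 2, 1, 0, 2, 1, 2, 0, 1, 0, 2, 1, 2, 0, 1, 2, 1, 2, 1, 0, 1, 2, 1, 2, 1, 0, 2, 1, 2, 0],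
  [1, 2, 0, 2, 1, 2, 0, 1, 0, 2, 1, 0, 1, 2, 0, 1, 0, 2, 1, 2, 0, 2, 1, 2, 0, 2, 1, 2, 0, 1, 0, 2, 1, 0, 1, 2, 0, 1, 0, 2, 1, 2, 0, 2],
  [2, 0, 2, 1, 0, 2, 0, 1, 0, 2, 1, 0, 1, 2, 0, 1, 0, 2, 0, 1, 2, 0, 2, 0, 2, 1, 0, 2, 0, 1, 0, 2, 1, 0, 1, 2, 0, 1, 0, 2, 0, 1, 2, 0],
  [2, 1, 0, 2, 1, 2, 1, 2, 0, 1, 2, 1, 2, 1, 0, 2, 1, 2, 1, 2, 0, 1, 2, 1, 2, 0, 1, 2, 0, 1, 0, 2, 1, 0, 1, 2, 0, 1, 0, 2, 1, 0, 2, 1],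
  [0, 1, 0, 2, 1, 0, 2, 1, 2, 0, 1, 2, 0, 2, 1, 0, 2, 1, 2, 0, 1, 2, 0, 1, 0, 1, 2, 0, 1, 2, 0, 2, 1, 0, 2, 1, 2, 0, 1, 2, 0, 2, 1, 0, 2, 1],
  [0, 1, 0, 2, 1, 2, 0, 2, 1, 0, 2, 1, 2, 0, 1, 2, 0, 2, 1, 2, 0, 1, 0, 1, 2, 0, 1, 2, 1, 2, 0, 1, 0, 2, 1, 2, 0, 1, 0, 2, 1, 2, 1, 0, 2, 1],
  [0, 1, 0, 2, 1, 2, 1, 2, 0, 1, 0, 2, 1, 2, 0, 1, 0, 2, 1, 2, 1, 2, 0, 1, 0, 1, 0, 2, 1, 2, 1, 2, 0, 1, 2, 1, 2, 1, 0, 2, 1, 2, 1, 2, 0, 1],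
  [0, 1, 0, 2, 1, 2, 1, 2, 0, 1, 2, 1, 0, 1, 2, 1, 0, 2, 1, 2, 1, 2, 0, 1, 0, 1, 2, 1, 2, 0, 1, 2, 0, 1, 2, 0, 2, 1, 0, 2, 1, 0, 2, 1, 2, 1],
  [0, 1, 2, 0, 1, 2, 0, 1, 2, 0, 2, 1, 0, 1, 2, 0, 2, 1, 0, 2, 1, 0, 2, 1, 0, 2, 1, 0, 2, 1, 0, 2, 1, 2, 1, 0, 1, 2, 1, 2, 0, 1, 2, 0, 1, 2],
  [0, 1, 2, 0, 1, 2, 1, 2, 0, 1, 2, 1, 0, 1, 2, 1, 0, 2, 1, 2, 1, 0, 2, 1, 0, 1, 2, 0, 2, 1, 0, 2, 1, 2, 1, 0, 1, 2, 1, 2, 0, 1, 2, 0, 2, 1],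
  [0, 2, 0, 1, 0, 2, 1, 2, 0, 1, 2, 0, 2, 1, 0, 2, 1, 2, 0, 1, 0, 2, 0, 2, 1, 2, 1, 2, 0, 1, 2, 0, 1, 2, 0, 2, 1, 0, 2, 1, 0, 2, 1, 2, 1, 2],
  [0, 2, 0, 2, 1, 2, 1, 2, 0, 1, 0, 2, 1, 2, 0, 1, 0, 2, 1, 2, 1, 2, 0, 2, 0, 2, 1, 2, 1, 2, 0, 2, 1, 0, 2, 1, 2, 0, 1, 2, 0, 2, 1, 2, 1, 2],
  [0, 2, 0, 2, 1, 2, 1, 2, 0, 1, 2, 1, 0, 1, 2, 1, 0, 2, 1, 2, 1, 2, 0, 2, 0, 2, 1, 2, 1, 2, 0, 2, 1, 2, 1, 0, 1, 2, 1, 2, 0, 2, 1, 2, 1, 2],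
  [1, 0, 1, 2, 0, 1, 2, 0, 2, 1, 2, 0, 2, 1, 2, 0, 2, 1, 0, 2, 1, 0, 1, 0, 2, 1, 0, 2, 1, 2, 0, 1, 2, 1, 0, 1, 2, 1, 0, 2, 1, 2, 0, 1, 2, 0],
  [1, 0, 2, 1, 2, 0, 2, 1, 2, 0, 1, 0, 2, 0, 1, 0, 2, 1, 2, 0, 2, 1, 2, 0, 1, 2, 1, 2, 0, 2, 1, 2, 0, 1, 0, 2, 0, 1, 0, 2, 1, 2, 0, 2, 1, 2],
  [1, 2, 1, 0, 2, 1, 2, 0, 2, 1, 2, 0, 2, 1, 2, 0, 2, 1, 2, 0, 1, 2, 1, 2, 1, 2, 0, 1, 2, 0, 2, 0, 1, 2, 0, 2, 1, 0, 2, 0, 2, 1, 0, 2, 1, 2],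
  [1, 2, 1, 2, 0, 2, 1, 2, 1, 2, 1, 0, 1, 2, 1, 2, 1, 2, 0, 2, 1, 2, 1, 2, 1, 2, 1, 2, 0, 1, 2, 1, 2, 1, 0, 1, 2, 1, 2, 1, 0, 2, 1, 2, 1, 2],
  [1, 2, 1, 2, 1, 2, 0, 1, 2, 0, 1, 2, 0, 2, 1, 0, 2, 1, 0, 2, 1, 2, 1, 2, 1, 2, 1, 2, 1, 2, 0, 2, 1, 0, 2, 1, 2, 0, 1, 2, 0, 2, 1, 2, 1, 2],
  [1, 2, 1, 2, 1, 2, 0, 2, 1, 2, 1, 0, 1, 2, 1, 2, 0, 2, 1, 2, 1, 2, 1, 2, 1, 2, 1, 2, 1, 0, 2, 1, 2, 1, 0, 1, 2, 1, 2, 0, 1, 2, 1, 2, 1, 2],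
  [2, 0, 2, 1, 0, 2, 1, 2, 0, 1, 2, 0, 2, 1, 0, 2, 1, 2, 0, 1, 2, 0, 2, 1, 0, 2, 1, 2, 1, 2, 0, 1, 2, 1, 0, 1, 2, 1, 0, 2, 1, 2, 1, 2, 0, 1],
  [2, 0, 2, 1, 2, 0, 2, 1, 2, 1, 2, 1, 0, 1, 2, 1, 2, 1, 2, 0, 2, 1, 2, 0, 2, 1, 0, 2, 1, 2, 0, 2, 1, 0, 2, 1, 2, 0, 1, 2, 0, 2, 1, 2, 0, 1],
  [0, 1, 0, 2, 1, 0, 2, 1, 2, 0, 1, 0, 2, 0, 1, 0, 2, 1, 2, 0, 1, 2, 0, 1, 0, 1, 2, 1, 2, 0, 1, 0, 2, 0, 1, 0, 2, 0, 1, 0, 2, 0, 1, 0, 2, 1, 2, 1],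
  [0, 2, 1, 0, 2, 1, 2, 1, 2, 0, 1, 2, 0, 2, 1, 0, 2, 1, 2, 1, 2, 0, 1, 2, 0, 2, 1, 0, 2, 1, 2, 1, 2, 0, 1, 2, 0, 2, 1, 0, 2, 1, 2, 1, 2, 0, 1, 2],
  [0, 2, 1, 2, 0, 1, 2, 0, 2, 0, 1, 2, 0, 2, 1, 0, 2, 0, 2, 1, 0, 2, 1, 2, 0, 2, 1, 2, 0, 1, 2, 0, 2, 0, 1, 2, 0, 2, 1, 0, 2, 0, 2, 1, 0, 2, 1, 2],
  [0, 2, 1, 2, 0, 1, 2, 0, 2, 1, 0, 2, 1, 2, 0, 1, 2, 0, 2, 1, 0, 2, 1, 2, 0, 2, 1, 2, 0, 1, 2, 1, 2, 0, 1, 2, 0, 2, 1, 0, 2, 1, 2, 1, 0, 2, 1, 2],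
  [0, 2, 1, 2, 0, 2, 1, 2, 0, 1, 2, 1, 0, 1, 2, 1, 0, 2, 1, 2, 0, 2, 1, 2, 0, 2, 1, 2, 0, 2, 1, 2, 0, 1, 2, 1, 0, 1, 2, 1, 0, 2, 1, 2, 0, 2, 1, 2],
  [0, 2, 1, 2, 1, 0, 2, 1, 2, 0, 1, 0, 2, 0, 1, 0, 2, 1, 2, 0, 1, 2, 1, 2, 0, 2, 1, 2, 1, 0, 2, 1, 2, 0, 1, 0, 2, 0, 1, 0, 2, 1, 2, 0, 1, 2, 1, 2],
  [0, 2, 1, 2, 1, 2, 0, 1, 2, 1, 2, 1, 0, 1, 2, 1, 2, 1, 0, 2, 1, 2, 1, 2, 0, 2, 1, 2, 1, 2, 0, 1, 2, 1, 2, 1, 0, 1, 2, 1, 2, 1, 0, 2, 1, 2, 1, 2],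
  [0, 2, 1, 2, 1, 2, 1, 0, 2, 1, 2, 1, 0, 1, 2, 1, 2, 0, 1, 2, 1, 2, 1, 2, 0, 2, 1, 2, 1, 2, 1, 0, 2, 1, 2, 1, 0, 1, 2, 1, 2, 0, 1, 2, 1, 2, 1, 2],
  [1, 0, 2, 1, 0, 2, 1, 2, 0, 2, 1, 2, 0, 2, 1, 2, 0, 2, 1, 2, 0, 1, 2, 0, 1, 0, 2, 1, 0, 2, 1, 2, 0, 2, 1, 2, 0, 2, 1, 2, 0, 2, 1, 2, 0, 1, 2, 0],
  [1, 0, 2, 1, 2, 0, 2, 1, 2, 1, 2, 1, 0, 1, 2, 1, 2, 1, 2, 0, 2, 1, 2, 0, 1, 0, 2, 1, 2, 0, 2, 1, 2, 1, 2, 1, 0, 1, 2, 1, 2, 1, 2, 0, 2, 1, 2, 0],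
  [1, 2, 0, 1, 0, 2, 1, 2, 0, 1, 2, 1, 0, 1, 2, 1, 0, 2, 1, 2, 0, 1, 0, 2, 1, 2, 1, 2, 0, 1, 2, 1, 2, 0, 1, 2, 0, 2, 1, 0, 2, 1, 2, 1, 0, 2, 1, 2],
  [1, 2, 0, 1, 2, 1, 2, 1, 0, 2, 1, 2, 0, 2, 1, 2, 0, 1, 2, 1, 2, 1, 0, 2, 1, 2, 0, 1, 2, 1, 2, 1, 0, 2, 1, 2, 0, 2, 1, 2, 0, 1, 2, 1, 2, 1, 0, 2],
  [1, 2, 0, 2, 1, 2, 1, 2, 0, 1, 2, 1, 0, 1, 2, 1, 0, 2, 1, 2, 1, 2, 0, 2, 1, 2, 0, 2, 1, 2, 1, 2, 0, 1, 2, 1, 0, 1, 2, 1, 0, 2, 1, 2, 1, 2, 0, 2],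
  [2, 0, 2, 1, 0, 2, 1, 2, 0, 2, 1, 2, 0, 2, 1, 2, 0, 2, 1, 2, 0, 1, 2, 0, 2, 1, 0, 2, 1, 0, 2, 1, 2, 0, 1, 2, 0, 2, 1, 0, 2, 1, 2, 0, 1, 2, 0, 1],
  [2, 0, 2, 1, 2, 0, 1, 2, 0, 2, 1, 2, 0, 2, 1, 2, 0, 2, 1, 0, 2, 1, 2, 0, 2, 1, 2, 0, 2, 1, 2, 1, 2, 0, 1, 2, 0, 2, 1, 0, 2, 1, 2, 1, 2, 0, 2, 1],
  [2, 1, 0, 2, 1, 0, 2, 1, 2, 0, 1, 0, 2, 0, 1, 0, 2, 1, 2, 0, 1, 2, 0, 1, 2, 1, 0, 2, 1, 0, 2, 1, 2, 0, 1, 0, 2, 0, 1, 0, 2, 1, 2, 0, 1, 2, 0, 1],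
  [2, 1, 2, 0, 1, 0, 2, 1, 2, 0, 1, 2, 0, 2, 1, 0, 2, 1, 2, 0, 1, 0, 2, 1, 2, 1, 2, 0, 1, 2, 1, 2, 0, 1, 2, 1, 0, 1, 2, 1, 0, 2, 1, 2, 1, 0, 2, 1],
  [0, 1, 2, 0, 1, 2, 0, 2, 1, 2, 1, 2, 1, 0, 1, 2, 1, 2, 1, 2, 0, 2, 1, 0, 2, 1, 0, 2, 0, 1, 2, 0, 1, 2, 0, 2, 1, 2, 0, 2, 1, 2, 0, 2, 1, 0, 2, 1, 0, 2],
  [0, 1, 2, 0, 2, 0, 1, 2, 0, 2, 1, 2, 0, 2, 1, 2, 0, 2, 1, 0, 2, 0, 2, 1, 0, 2, 0, 2, 1, 0, 2, 1, 2, 0, 1, 2, 1, 0, 1, 2, 1, 0, 2, 1, 2, 0, 1, 2, 0, 2],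
  [0, 1, 2, 1, 2, 0, 2, 1, 0, 2, 1, 2, 1, 0, 1, 2, 1, 2, 0, 1, 2, 0, 2, 1, 2, 1, 0, 2, 0, 1, 2, 0, 2, 1, 2, 1, 2, 1, 0, 1, 2, 1, 2, 1, 2, 0, 2, 1, 0, 2],
  [0, 1, 2, 1, 2, 0, 2, 1, 2, 0, 1, 2, 1, 0, 1, 2, 1, 0, 2, 1, 2, 0, 2, 1, 2, 1, 0, 2, 0, 1, 2, 1, 2, 1, 0, 2, 1, 2, 0, 2, 1, 2, 0, 1, 2, 1, 2, 1, 0, 2],
  [0, 2, 0, 2, 0, 1, 0, 2, 1, 2, 0, 1, 0, 2, 0, 1, 0, 2, 1, 2, 0, 1, 0, 2, 0, 2, 0, 2, 0, 2, 1, 0, 2, 1, 2, 0, 1, 0, 2, 0, 1, 0, 2, 1, 2, 0, 1, 2, 0, 2],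
  [1, 0, 1, 2, 0, 1, 0, 2, 1, 2, 0, 1, 2, 0, 2, 1, 0, 2, 1, 2, 0, 1, 0, 2, 1, 0, 1, 2, 0, 2, 1, 2, 1, 2, 0, 1, 0, 2, 1, 2, 0, 1, 0, 2, 1, 2, 1, 2, 0, 2],
  [1, 0, 1, 2, 0, 2, 1, 2, 1, 2, 0, 1, 2, 0, 2, 1, 0, 2, 1, 2, 1, 2, 0, 2, 1, 0, 1, 0, 2, 1, 2, 1, 2, 1, 0, 2, 1, 2, 0, 2, 1, 2, 0, 1, 2, 1, 2, 1, 2, 0],
  [1, 0, 2, 1, 2, 0, 1, 2, 0, 2, 1, 2, 0, 2, 1, 2, 0, 2, 1, 0, 2, 1, 2, 0, 1, 2, 0, 2, 1, 0, 2, 1, 2, 0, 1, 2, 1, 0, 1, 2, 1, 0, 2, 1, 2, 0, 1, 2, 0, 2],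
  [1, 0, 2, 1, 2, 0, 2, 1, 0, 2, 1, 2, 1, 0, 1, 2, 1, 2, 0, 1, 2, 0, 2, 1, 2, 0, 1, 2, 0, 1, 2, 0, 1, 2, 0, 2, 1, 2, 0, 2, 1, 2, 0, 2, 1, 0, 2, 1, 0, 2],
  [1, 2, 0, 2, 1, 2, 1, 2, 1, 0, 2, 1, 2, 0, 2, 1, 2, 0, 1, 2, 1, 2, 1, 2, 0, 2, 1, 2, 1, 2, 0, 1, 2, 0, 2, 1, 0, 2, 1, 2, 0, 1, 2, 0, 2, 1, 0, 2, 1, 2],
  [1, 2, 1, 2, 1, 2, 0, 1, 0, 2, 0, 1, 0, 2, 0, 1, 0, 2, 0, 1, 0, 2, 1, 2, 1, 2, 1, 2, 1, 2, 1, 2, 0, 1, 2, 0, 1, 0, 2, 0, 1, 0, 2, 1, 0, 2, 1, 2, 1, 2],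
  [2, 0, 2, 0, 1, 0, 2, 1, 2, 0, 1, 2, 1, 0, 1, 2, 1, 0, 2, 1, 2, 0, 1, 0, 2, 0, 2, 1, 2, 0, 2, 0, 1, 2, 0, 2, 1, 2, 0, 2, 1, 2, 0, 2, 1, 0, 2, 0, 2, 1],
  [2, 1, 2, 0, 1, 2, 1, 2, 0, 1, 0, 2, 1, 2, 0, 1, 0, 2, 1, 2, 1, 0, 2, 1, 2, 1, 2, 1, 2, 0, 2, 1, 0, 2, 1, 2, 1, 0, 1, 2, 1, 2, 0, 1, 2, 0, 2, 1, 2, 1],
  [0, 2, 1, 0, 2, 1, 2, 1, 2, 0, 1, 0, 2, 1, 2, 0, 1, 0, 2, 1, 2, 1, 2, 0, 1, 2, 0, 2, 1, 2, 0, 1, 2, 0, 1, 2, 0, 2, 1, 0, 1, 2, 0, 2, 1, 0, 2, 1, 0, 2, 1, 2],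
  [1, 2, 1, 0, 2, 1, 2, 1, 2, 0, 1, 0, 2, 1, 2, 0, 1, 0, 2, 1, 2, 1, 2, 0, 1, 2, 1, 2, 1, 0, 2, 1, 2, 1, 2, 0, 1, 0, 2, 1, 2, 0, 1, 0, 2, 1, 2, 1, 2, 0, 1, 2],
  [2, 0, 1, 2, 0, 1, 0, 2, 1, 2, 0, 1, 0, 2, 0, 1, 0, 2, 1, 2, 0, 1, 0, 2, 1, 0, 2, 0, 1, 2, 0, 1, 0, 2, 1, 2, 0, 1, 0, 2, 0, 1, 0, 2, 1, 2, 0, 1, 0, 2, 1, 0],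
  [2, 0, 1, 2, 0, 2, 1, 2, 1, 2, 0, 1, 2, 0, 2, 1, 0, 2, 1, 2, 1, 2, 0, 2, 1, 0, 2, 1, 2, 0, 1, 2, 0, 2, 1, 2, 1, 2, 1, 0, 1, 2, 1, 2, 1, 2, 0, 2, 1, 0, 2, 1],
  [2, 0, 2, 1, 2, 0, 2, 1, 0, 2, 1, 2, 1, 0, 1, 2, 1, 2, 0, 1, 2, 0, 2, 1, 2, 0, 2, 1, 2, 1, 0, 2, 1, 2, 1, 2, 0, 1, 2, 0, 2, 1, 0, 2, 1, 2, 1, 2, 0, 1, 2, 1],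
  [0, 1, 0, 2, 0, 1, 0, 2, 1, 2, 0, 1, 2, 1, 0, 1, 2, 1, 0, 2, 1, 2, 0, 1, 0, 2, 0, 1, 0, 2, 0, 2, 1, 2, 1, 2, 1, 0, 2, 1, 2, 0, 2, 1, 2, 0, 1, 2, 1, 2, 1, 2, 0, 2],
  [0, 1, 2, 1, 0, 2, 1, 2, 1, 2, 0, 1, 2, 0, 2, 1, 0, 2, 1, 2, 1, 2, 0, 1, 2, 1, 0, 2, 0, 1, 2, 0, 1, 0, 2, 1, 2, 0, 1, 2, 0, 2, 1, 0, 2, 1, 2, 0, 1, 0, 2, 1, 0, 2],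
  [0, 2, 0, 2, 1, 2, 0, 2, 1, 2, 0, 1, 0, 2, 0, 1, 0, 2, 1, 2, 0, 2, 1, 2, 0, 2, 0, 2, 0, 2, 1, 2, 1, 2, 0, 1, 2, 0, 1, 0, 2, 0, 1, 0, 2, 1, 0, 2, 1, 2, 1, 2, 0, 2],
  [1, 0, 1, 0, 2, 0, 1, 0, 2, 1, 2, 0, 1, 0, 2, 0, 1, 0, 2, 1, 2, 0, 1, 0, 2, 0, 1, 0, 1, 0, 1, 2, 0, 1, 0, 2, 1, 2, 0, 1, 0, 2, 0, 1, 0, 2, 1, 2, 0, 1, 0, 2, 1, 0],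
  [1, 0, 1, 2, 0, 2, 1, 0, 2, 1, 2, 0, 1, 0, 2, 0, 1, 0, 2, 1, 2, 0, 1, 2, 0, 2, 1, 0, 1, 2, 0, 2, 1, 2, 0, 2, 1, 2, 0, 1, 0, 2, 0, 1, 0, 2, 1, 2, 0, 2, 1, 2, 0, 2],
  [1, 0, 2, 1, 2, 0, 1, 0, 2, 1, 2, 0, 1, 0, 2, 0, 1, 0, 2, 1, 2, 0, 1, 0, 2, 1, 2, 0, 1, 2, 1, 2, 0, 1, 0, 2, 1, 2, 0, 1, 0, 2, 0, 1, 0, 2, 1, 2, 0, 1, 0, 2, 1, 2],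
  [1, 2, 0, 2, 0, 1, 0, 2, 1, 2, 0, 1, 0, 2, 0, 1, 0, 2, 1, 2, 0, 1, 0, 2, 0, 2, 1, 2, 0, 2, 1, 2, 1, 2, 0, 1, 2, 0, 1, 0, 2, 0, 1, 0, 2, 1, 0, 2, 1, 2, 1, 2, 0, 2],
  [2, 0, 1, 0, 2, 0, 1, 0, 2, 1, 2, 0, 1, 0, 2, 0, 1, 0, 2, 1, 2, 0, 1, 0, 2, 0, 1, 0, 2, 1, 2, 0, 2, 1, 0, 2, 1, 2, 0, 1, 0, 2, 0, 1, 0, 2, 1, 2, 0, 1, 2, 0, 2, 1],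
  [2, 0, 1, 2, 0, 2, 1, 0, 2, 1, 2, 0, 1, 0, 2, 0, 1, 0, 2, 1, 2, 0, 1, 2, 0, 2, 1, 0, 2, 1, 2, 1, 2, 1, 0, 2, 1, 2, 0, 1, 0, 2, 0, 1, 0, 2, 1, 2, 0, 1, 2, 1, 2, 1],
  [2, 1, 0, 2, 0, 1, 0, 2, 1, 2, 0, 1, 0, 2, 0, 1, 0, 2, 1, 2, 0, 1, 0, 2, 0, 1, 2, 1, 0, 2, 1, 2, 1, 2, 0, 1, 2, 0, 1, 0, 2, 0, 1, 0, 2, 1, 0, 2, 1, 2, 1, 2, 0, 1],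
  [2, 1, 0, 2, 0, 1, 0, 2, 1, 2, 0, 1, 2, 1, 0, 1, 2, 1, 0, 2, 1, 2, 0, 1, 0, 2, 0, 1, 2, 1, 2, 1, 2, 0, 2, 1, 2, 0, 1, 2, 1, 0, 1, 2, 1, 0, 2, 1, 2, 0, 2, 1, 2, 1],
  [0, 1, 2, 1, 2, 0, 1, 2, 0, 1, 2, 0, 2, 1, 0, 1, 2, 0, 2, 1, 0, 2, 1, 0, 2, 1, 2, 1, 0, 1, 2, 1, 2, 0, 1, 2, 0, 1, 2, 0, 2, 1, 0, 1, 2, 0, 2, 1, 0, 2, 1, 0, 2, 1, 2, 1],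
  [1, 0, 1, 2, 1, 2, 1, 0, 2, 1, 2, 0, 1, 0, 2, 0, 1, 0, 2, 1, 2, 0, 1, 2, 1, 2, 1, 0, 1, 0, 1, 2, 1, 2, 1, 0, 2, 1, 2, 0, 1, 0, 2, 0, 1, 0, 2, 1, 2, 0, 1, 2, 1, 2, 1, 0],
  [1, 2, 0, 1, 2, 0, 1, 0, 2, 1, 2, 0, 1, 2, 0, 2, 1, 0, 2, 1, 2, 0, 1, 0, 2, 1, 0, 2, 1, 2, 0, 1, 2, 0, 1, 0, 2, 1, 2, 0, 1, 2, 0, 2, 1, 0, 2, 1, 2, 0, 1, 0, 2, 1, 0, 2],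
  [2, 0, 2, 1, 2, 0, 1, 0, 2, 1, 2, 0, 1, 0, 2, 0, 1, 0, 2, 1, 2, 0, 1, 0, 2, 1, 2, 0, 2, 0, 2, 1, 2, 0, 1, 0, 2, 1, 2, 0, 1, 0, 2, 0, 1, 0, 2, 1, 2, 0, 1, 0, 2, 1, 2, 0],
  [2, 0, 2, 1, 2, 1, 2, 0, 1, 0, 2, 0, 1, 0, 2, 0, 1, 0, 2, 0, 1, 0, 2, 1, 2, 1, 2, 0, 2, 0, 2, 1, 2, 1, 2, 0, 1, 0, 2, 0, 1, 0, 2, 0, 1, 0, 2, 0, 1, 0, 2, 1, 2, 1, 2, 0],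
  [2, 1, 2, 1, 2, 0, 1, 2, 0, 1, 2, 0, 2, 1, 0, 1, 2, 0, 2, 1, 0, 2, 1, 0, 2, 1, 2, 1, 2, 1, 2, 1, 2, 0, 1, 2, 0, 1, 2, 0, 2, 1, 0, 1, 2, 0, 2, 1, 0, 2, 1, 0, 2, 1, 2, 1],
  [0, 1, 0, 2, 1, 2, 1, 2, 0, 1, 0, 2, 0, 1, 0, 2, 0, 1, 0, 2, 0, 1, 0, 2, 1, 2, 1, 2, 0, 1, 0, 1, 0, 2, 1, 2, 1, 2, 0, 1, 2, 0, 1, 0, 2, 0, 1, 0, 2, 1, 0, 2, 1, 2, 1, 2, 0, 1],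
  [2, 0, 1, 2, 1, 2, 1, 0, 2, 1, 2, 0, 1, 0, 2, 0, 1, 0, 2, 1, 2, 0, 1, 2, 1, 2, 1, 0, 2, 1, 0, 2, 1, 2, 1, 2, 0, 1, 0, 2, 0, 1, 0, 2, 0, 1, 0, 2, 0, 1, 0, 2, 1, 2, 1, 2, 0, 1]]

end CfsgLib.J3Local.Cover
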