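import Cfsg.Agent.Coset.Blocks
import Cfsg.Agent.J3Local.Cover.L0
import Cfsg.Agent.J3Local.Cover.T0Data

set_option autoImplicit false
set_option maxRecDepth 100000
set_option Elab.async false

namespace CfsgLib.J3Local.Cover.T0

open CfsgLib.Coset

theorem hsteps2 : belowBlock 6 305 (chunkAt E id R 4 18849 C) 2 = true := by decide +kernel
theorem hsteps3 : belowBlock 6 305 (chunkAt E id R 4 18849 C) 3 = true := by decide +kernel

end CfsgLib.J3Local.Cover.T0
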