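import Cfsg.Agent.J3Local.Cover.T0Steps0
import Cfsg.Agent.J3Local.Cover.T0Steps1
import Cfsg.Agent.J3Local.Cover.T0Steps2
import Cfsg.Agent.J3Local.Cover.T0Steps3
import Mathlib.Tactic.IntervalCases

set_option autoImplicit false
set_option maxRecDepth 100000
set_option Elab.async false

namespace CfsgLib.J3Local.Cover.T0

open CfsgLib.Coset

theorem hR : checkRules lrels subs R = true := by decide +kernel
theorem hdefs : checkDefs E 4 15 18849 = true := by decide +kernel
theorem hsteps : checkChunks E id R 4 (6 + 3) 18849 305 C = true :=
  checkChunks_of_blocks (by decide +kernel) fun b hb => by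
    have : b < 8 := hb
    interval_cases b
    · exact hsteps0
    · exact hsteps1
    · exact hsteps2
    · exact hsteps3
    · exact hsteps4
    · exact hsteps5
    · exact hsteps6
    · exact hsteps7

theorem htable : checkTable E id (18849 + chunk * 305) 18468 4 15 2 Rep Ref Tb = true := by decide +kernel

end CfsgLib.J3Local.Cover.T0
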