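import Cfsg.Agent.J3Local.Cover.T1Steps0
import Mathlib.Tactic.IntervalCases

set_option autoImplicit false
set_option maxRecDepth 100000
set_option Elab.async false

namespace CfsgLib.J3Local.Cover.T1

open CfsgLib.Coset

theorem hR : checkRules lrels subs R = true := by decide +kernel
theorem hdefs : checkDefs E 3 14 16320 = true := by decide +kernel
theorem hsteps : checkChunks E id R 3 (6 + 1) 16320 128 C = true :=
  checkChunks_of_blocks (by decide +kernel) fun b hb => by
    have : b < 2 := hb
    interval_cases b
    · exact hsteps0
    · exact hsteps1

theorem htable : checkTable E id (16320 + chunk * 128) 16320 3 14 2 Rep Ref Tb = true := by decide +kernel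

end CfsgLib.J3Local.Cover.T1
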