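import Cfsg.Agent.Coset.Prim

set_option autoImplicit false
set_option maxRecDepth 100000

/-! The relators on a set of letters. -/

namespace CfsgLib.J3Local.Cover.T1

/-- The relators on these letters. -/
def lrels : List (List Nat) := [[0, 0], [1, 1], [2, 2], [0, 1, 0, 1, 0, 1], [0, 2, 0, 2, 0, 2, 0, 2], [1, 2, 1, 2, 1, 2, 1, 2, 1, 2, 1, 2], [2, 0, 1, 2, 1, 0, 2, 0, 1, 2, 1, 0], [1, 0, 1, 0, 2, 0, 1, 0, 1, 0, 1, 2, 1, 0], [1, 0, 1, 2, 0, 2, 1, 0, 1, 0, 1, 2, 0, 2, 1, 0], [2, 0, 2, 1, 2, 1, 2, 0, 2, 0, 2, 1, 2, 1, 2, 0], [0, 2, 0, 2, 1, 0, 1, 2, 0, 2, 0, 2, 0, 2, 1, 2, 0, 2], [1, 0, 1, 0, 2, 1, 2, 0, 1, 0,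 1, 0, 1, 2, 1, 2, 1, 0], [0, 1, 0, 2, 1, 2, 1, 2, 0, 1, 0, 1, 0, 2, 1, 2, 1, 2, 0, 1], [0, 1, 2, 1, 2, 0, 2, 1, 2, 1, 0, 2, 0, 1, 2, 1, 0, 1, 2, 1, 0, 2], [1, 0, 1, 0, 2, 1, 0, 1, 2, 0, 1, 0, 1, 0, 1, 2, 1, 0, 1, 2, 1, 0], [1, 0, 2, 0, 1, 2, 0, 2, 1, 0, 2, 0, 1, 2, 1, 0, 2, 1, 2, 0, 1, 2], [1, 0, 2, 0, 1, 2, 1, 2, 1, 0, 2, 0, 1, 2, 1, 0, 2, 1, 0, 1, 2, 0, 1, 2], [2, 0, 2, 0, 1, 0, 2, 0, 1, 0, 2, 0, 2, 0, 2, 0, 1, 0, 2, 0, 1, 0, 2, 0], [2, 0, 2, 0, 1, 2, 1, 2, 1, 0, 2, 0, 2, 0, 2, 0, 1, 2, 1, 2, 1, 0, 2, 0], [2, 1, 2, 0, 2, 1, 0, 1, 2, 0, 2, 1, 2, 1, 2, 0, 2, 1, 0, 1, 2, 0, 2, 1], [0, 1, 0, 2, 1, 2, 0, 2, 1,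 2, 0, 1, 0, 1, 2, 0, 1, 2, 1, 0, 1, 2, 1, 0, 2, 1], [0, 2, 0, 2, 0, 1, 2, 0, 2, 1, 0, 2, 0, 2, 0, 2, 0, 2, 1, 2, 0, 2, 1, 2, 0, 2], [0, 2, 0, 2, 1, 2, 1, 0, 1, 2, 1, 2, 0, 2, 0, 2, 1, 2, 1, 2, 0, 2, 1, 2, 1, 2], [1, 0, 1, 2, 0, 1, 2, 0, 2, 1, 0, 2, 1, 0, 1, 0, 2, 1, 0, 2, 1, 2, 0, 1, 2, 0], [1, 0, 1, 2, 0, 2, 1, 0, 1, 2, 0, 2, 1, 0, 1, 0, 1, 2, 0, 2, 1, 2, 0, 2, 1, 0], [1, 2, 1, 2, 1, 2, 0, 2, 1, 2, 1, 2, 1, 2, 1, 2, 1, 2, 1, 0, 1, 2, 1, 2, 1, 2], [1, 0, 1, 2, 0, 1, 2, 1, 2, 1, 0, 2, 1, 0, 1, 0, 2, 1, 0, 2, 1, 0, 1, 2, 0, 1, 2, 0], [2, 1, 0, 2, 0, 1, 0, 2, 0, 1, 0, 2, 0, 1, 2, 1, 0, 2, 0, 1, 0, 2, 0, 1, 0,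 2, 0, 1], [0, 1, 2, 1, 0, 2, 1, 2, 1, 2, 0, 1, 2, 1, 0, 2, 0, 1, 2, 0, 1, 0, 2, 0, 1, 0, 2, 1, 0, 2], [0, 1, 2, 1, 2, 0, 2, 1, 2, 0, 2, 1, 2, 1, 0, 2, 0, 1, 2, 1, 2, 1, 0, 1, 2, 1, 2, 1, 0, 2], [0, 2, 0, 2, 0, 1, 0, 2, 1, 2, 0, 1, 0, 2, 0, 2, 0, 2, 0, 2, 1, 0, 2, 1, 2, 0, 1, 2, 0, 2], [1, 0, 1, 0, 2, 0, 1, 0, 2, 0, 1, 0, 2, 0, 1, 0, 1, 0, 1, 2, 0, 1, 0, 2, 0, 1, 0, 2, 1, 0], [1, 0, 1, 0, 2, 1, 2, 1, 0, 1, 2, 1, 2, 0, 1, 0, 1, 0, 1, 2, 1, 2, 1, 0, 1, 2, 1, 2, 1, 0], [0, 1, 0, 2, 0, 1, 0, 2, 1, 2, 0, 1, 0, 2, 0, 1, 0, 2, 0, 2, 1, 2, 0, 2, 1, 2, 0, 2, 1, 2, 0, 2], [0, 1, 2, 0, 1, 2, 0, 2, 1, 2, 0, 2, 1, 0, 2,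 1, 0, 1, 2, 0, 1, 2, 0, 2, 1, 2, 0, 2, 1, 0, 2, 1], [0, 1, 2, 1, 0, 2, 1, 2, 0, 2, 1, 2, 0, 1, 2, 1, 0, 2, 0, 1, 2, 0, 1, 2, 0, 2, 1, 0, 2, 1, 0, 2], [0, 2, 0, 2, 1, 0, 2, 1, 2, 1, 2, 0, 1, 2, 0, 2, 0, 2, 0, 2, 1, 0, 2, 1, 2, 1, 2, 0, 1, 2, 0, 2], [1, 0, 1, 2, 0, 1, 0, 2, 1, 2, 0, 1, 0, 2, 1, 0, 1, 2, 0, 2, 1, 2, 0, 2, 1, 2, 0, 2, 1, 2, 0, 2], [1, 0, 2, 0, 1, 2, 0, 2, 1, 2, 0, 2, 1, 0, 2, 0, 1, 0, 2, 0, 1, 2, 0, 2, 1, 2, 0, 2, 1, 0, 2, 0], [1, 0, 2, 1, 0, 2, 1, 2, 0, 2, 1, 2, 0, 1, 2, 0, 1, 2, 0, 1, 2, 0, 1, 2, 1, 2, 1, 0, 2, 1, 0, 2], [1, 2, 0, 2, 1, 0, 2, 1, 2, 1, 2, 0, 1, 2, 0, 2, 1, 2, 0, 2, 1, 0, 2, 1,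 2, 1, 2, 0, 1, 2, 0, 2], [2, 0, 1, 2, 0, 1, 0, 2, 1, 2, 0, 1, 0, 2, 1, 0, 2, 0, 1, 2, 0, 1, 0, 2, 1, 2, 0, 1, 0, 2, 1, 0], [2, 0, 2, 0, 1, 2, 0, 2, 1, 2, 0, 2, 1, 0, 2, 0, 2, 1, 0, 2, 0, 1, 0, 2, 1, 2, 0, 1, 0, 2, 0, 1], [2, 1, 0, 2, 1, 0, 2, 1, 2, 1, 2, 0, 1, 2, 0, 1, 2, 1, 0, 2, 1, 0, 2, 1, 2, 1, 2, 0, 1, 2, 0, 1], [2, 1, 2, 1, 2, 0, 1, 0, 2, 0, 1, 0, 2, 1, 2, 1, 2, 1, 2, 1, 2, 0, 1, 0, 2, 0, 1, 0, 2, 1, 2, 1], [0, 1, 0, 2, 1, 0, 2, 1, 2, 1, 2, 0, 1, 2, 0, 1, 0, 1, 2, 0, 1, 2, 0, 1, 0, 2, 0, 1, 0, 2, 1, 0, 2, 1], [0, 1, 0, 2, 1, 2, 0, 2, 1, 2, 0, 2, 1, 2, 0, 1, 0, 1, 2, 0, 1, 2, 1, 2, 1, 0, 1, 2, 1, 2, 1,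 0, 2, 1], [0, 1, 2, 0, 1, 2, 0, 1, 2, 0, 2, 1, 0, 2, 1, 0, 2, 1, 0, 2, 0, 1, 2, 0, 1, 2, 1, 2, 1, 0, 2, 1, 0, 2], [0, 1, 2, 0, 2, 1, 2, 1, 0, 1, 2, 1, 2, 0, 2, 1, 0, 2, 0, 1, 0, 2, 1, 2, 1, 0, 1, 2, 1, 2, 0, 1, 0, 2], [0, 2, 0, 2, 0, 1, 0, 2, 1, 0, 1, 2, 0, 1, 0, 2, 0, 2, 0, 2, 0, 2, 1, 0, 2, 1, 0, 1, 2, 0, 1, 2, 0, 2], [0, 2, 0, 2, 1, 2, 0, 1, 0, 2, 0, 1, 0, 2, 1, 2, 0, 2, 0, 2, 1, 2, 1, 0, 2, 1, 2, 1, 2, 0, 1, 2, 1, 2], [0, 2, 0, 2, 1, 2, 1, 2, 1, 0, 1, 2, 1, 2, 1, 2, 0, 2, 0, 2, 1, 2, 1, 2, 0, 2, 1, 2, 0, 2, 1, 2, 1, 2], [1, 0, 1, 2, 0, 2, 0, 1, 2, 0, 2, 1, 0, 2, 0, 2, 1, 0, 1, 0, 1, 2, 0, 2, 1, 2, 0, 2,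 1, 2, 0, 2, 1, 0], [1, 0, 2, 1, 2, 0, 1, 2, 1, 2, 1, 0, 2, 1, 2, 0, 1, 2, 1, 2, 0, 1, 0, 2, 1, 0, 1, 2, 0, 1, 0, 2, 1, 2], [1, 0, 2, 1, 2, 1, 2, 1, 0, 1, 2, 1, 2, 1, 2, 0, 1, 2, 0, 1, 0, 2, 1, 2, 1, 0, 1, 2, 1, 2, 0, 1, 0, 2], [1, 2, 1, 2, 0, 2, 0, 1, 2, 0, 2, 1, 0, 2, 0, 2, 1, 2, 1, 2, 1, 2, 1, 2, 0, 2, 1, 2, 0, 2, 1, 2, 1, 2], [0, 2, 0, 2, 1, 2, 0, 1, 2, 0, 2, 1, 0, 2, 1, 2, 0, 2, 0, 2, 1, 2, 1, 0, 2, 1, 2, 0, 2, 1, 2, 0, 1, 2, 1, 2], [1, 2, 0, 2, 1, 0, 2, 1, 2, 0, 2, 1, 2, 0, 1, 2, 0, 2, 1, 2, 0, 2, 1, 0, 2, 1, 2, 0, 2, 1, 2, 0, 1, 2, 0, 2], [1, 2, 1, 2, 1, 2, 0, 1, 2, 0, 2, 1, 0, 2, 1, 2, 1, 2, 1, 2, 1,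 2, 1, 2, 0, 1, 2, 0, 2, 1, 0, 2, 1, 2, 1, 2], [2, 0, 1, 2, 1, 2, 0, 1, 0, 2, 0, 1, 0, 2, 1, 2, 1, 0, 2, 0, 1, 2, 1, 2, 0, 1, 0, 2, 0, 1, 0, 2, 1, 2, 1, 0], [2, 0, 1, 2, 1, 2, 0, 1, 2, 1, 2, 1, 0, 2, 1, 2, 1, 0, 2, 0, 1, 2, 1, 2, 0, 1, 2, 1, 2, 1, 0, 2, 1, 2, 1, 0], [2, 0, 2, 0, 1, 2, 0, 2, 1, 0, 1, 2, 0, 2, 1, 0, 2, 0, 2, 0, 2, 0, 1, 2, 0, 2, 1, 0, 1, 2, 0, 2, 1, 0, 2, 0], [2, 0, 2, 1, 2, 0, 1, 0, 2, 1, 2, 0, 1, 0, 2, 1, 2, 0, 2, 0, 2, 1, 2, 0, 1, 0, 2, 1, 2, 0, 1, 0, 2, 1, 2, 0], [2, 1, 2, 0, 1, 2, 0, 2, 1, 0, 1, 2, 0, 2, 1, 0, 2, 1, 2, 1, 2, 0, 1, 2, 0, 2, 1, 0, 1, 2, 0, 2, 1, 0, 2, 1], [2, 1, 2, 1, 2, 1,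 0, 2, 1, 2, 1, 2, 0, 1, 2, 1, 2, 1, 2, 1, 2, 1, 2, 1, 0, 2, 1, 2, 1, 2, 0, 1, 2, 1, 2, 1], [0, 1, 2, 1, 0, 2, 1, 2, 1, 0, 1, 2, 1, 2, 0, 1, 2, 1, 0, 2, 0, 1, 2, 0, 1, 0, 2, 1, 0, 1, 2, 0, 1, 0, 2, 1, 0, 2], [0, 1, 2, 1, 2, 0, 2, 1, 2, 0, 2, 1, 2, 0, 2, 1, 2, 1, 0, 2, 0, 1, 2, 1, 2, 0, 1, 2, 0, 2, 1, 0, 2, 1, 2, 1, 0, 2], [0, 1, 2, 1, 2, 1, 0, 2, 1, 2, 1, 2, 0, 1, 2, 1, 2, 1, 0, 2, 1, 2, 0, 1, 2, 0, 1, 0, 2, 0, 1, 0, 2, 1, 0, 2, 1, 2], [0, 2, 0, 2, 1, 0, 2, 1, 2, 0, 2, 1, 2, 0, 1, 2, 0, 2, 0, 2, 0, 2, 1, 2, 0, 1, 2, 1, 0, 1, 2, 1, 0, 2, 1, 2, 0, 2], [0, 2, 0, 2, 1, 0, 2, 1, 2, 1, 0, 1, 2, 1, 2, 0, 1, 2, 0, 2,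 0, 2, 1, 2, 0, 2, 1, 2, 1, 0, 1, 2, 1, 2, 0, 2, 1, 2], [0, 2, 0, 2, 1, 2, 0, 1, 2, 1, 2, 1, 0, 2, 1, 2, 0, 2, 0, 2, 1, 2, 0, 1, 2, 0, 1, 2, 0, 2, 1, 0, 2, 1, 0, 2, 1, 2], [1, 0, 1, 0, 2, 0, 1, 0, 2, 1, 0, 1, 2, 0, 1, 0, 2, 0, 1, 0, 1, 0, 1, 2, 0, 1, 0, 2, 1, 0, 1, 2, 0, 1, 0, 2, 1, 0], [1, 0, 1, 0, 2, 1, 2, 0, 1, 0, 2, 0, 1, 0, 2, 1, 2, 0, 1, 0, 1, 0, 1, 2, 1, 2, 0, 1, 0, 2, 0, 1, 0, 2, 1, 2, 1, 0], [1, 0, 1, 0, 2, 1, 2, 0, 1, 2, 0, 2, 1, 0, 2, 1, 2, 0, 1, 0, 1, 0, 1, 2, 1, 2, 0, 1, 2, 0, 2, 1, 0, 2, 1, 2, 1, 0], [1, 0, 1, 2, 0, 2, 0, 1, 0, 2, 1, 2, 0, 1, 0, 2, 0, 2, 1, 0, 1, 0, 1, 2, 0, 2, 1, 0, 2, 1, 2, 0,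 1, 2, 0, 2, 1, 0], [1, 0, 1, 2, 1, 2, 0, 1, 2, 1, 2, 1, 0, 2, 1, 2, 1, 0, 1, 0, 2, 1, 2, 0, 1, 0, 2, 1, 0, 1, 2, 0, 1, 0, 2, 1, 2, 0], [1, 0, 2, 0, 1, 2, 0, 2, 1, 0, 1, 2, 0, 2, 1, 0, 2, 0, 1, 2, 1, 0, 2, 0, 1, 0, 2, 1, 0, 1, 2, 0, 1, 0, 2, 0, 1, 2], [1, 2, 0, 2, 1, 2, 0, 1, 2, 1, 2, 1, 0, 2, 1, 2, 0, 2, 1, 2, 1, 2, 1, 2, 0, 1, 2, 1, 0, 1, 2, 1, 0, 2, 1, 2, 1, 2], [1, 2, 1, 2, 1, 2, 0, 1, 0, 2, 1, 2, 0, 1, 0, 2, 1, 2, 1, 2, 1, 2, 1, 2, 1, 2, 0, 1, 2, 1, 2, 1, 0, 2, 1, 2, 1, 2], [0, 1, 2, 0, 1, 0, 2, 0, 1, 0, 2, 0, 1, 0, 2, 0, 1, 0, 2, 1, 0, 1, 2, 0, 1, 0, 2, 0, 1, 0, 2, 0, 1, 0, 2, 0, 1, 0, 2, 1], [0, 1, 2,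 0, 2, 0, 1, 0, 2, 1, 0, 1, 2, 0, 1, 0, 2, 0, 2, 1, 0, 1, 2, 0, 2, 0, 1, 0, 2, 1, 0, 1, 2, 0, 1, 0, 2, 0, 2, 1], [0, 2, 0, 1, 2, 0, 2, 0, 1, 2, 0, 2, 1, 0, 2, 0, 2, 1, 0, 2, 0, 2, 1, 2, 0, 2, 0, 1, 0, 2, 1, 2, 0, 1, 0, 2, 0, 2, 1, 2], [1, 0, 2, 0, 1, 0, 2, 0, 1, 0, 2, 0, 1, 0, 2, 0, 1, 0, 2, 0, 1, 0, 2, 0, 1, 0, 2, 0, 1, 0, 2, 0, 1, 0, 2, 0, 1, 0, 2, 0], [1, 2, 1, 2, 0, 2, 0, 1, 0, 2, 1, 2, 0, 1, 0, 2, 0, 2, 1, 2, 1, 2, 1, 2, 0, 2, 0, 1, 0, 2, 1, 2, 0, 1, 0, 2, 0, 2, 1, 2], [2, 0, 1, 2, 0, 2, 0, 1, 0, 2, 1, 2, 0, 1, 0, 2, 0, 2, 1, 0, 2, 0, 2, 1, 2, 0, 2, 0, 1, 2, 0, 2, 1, 0, 2, 0, 2, 1, 2, 0], [2, 0, 2, 0, 1,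 0, 2, 0, 1, 0, 2, 0, 1, 0, 2, 0, 1, 0, 2, 0, 2, 0, 2, 0, 1, 0, 2, 0, 1, 0, 2, 0, 1, 0, 2, 0, 1, 0, 2, 0], [2, 0, 2, 1, 2, 1, 2, 0, 1, 2, 1, 2, 1, 0, 2, 1, 2, 1, 2, 0, 2, 0, 2, 1, 2, 1, 2, 0, 1, 2, 1, 2, 1, 0, 2, 1, 2, 1, 2, 0], [2, 1, 2, 0, 2, 0, 1, 0, 2, 1, 0, 1, 2, 0, 1, 0, 2, 0, 2, 1, 2, 1, 2, 0, 2, 0, 1, 0, 2, 1, 0, 1, 2, 0, 1, 0, 2, 0, 2, 1], [2, 1, 2, 1, 0, 2, 1, 2, 0, 2, 1, 2, 0, 2, 1, 2, 0, 1, 2, 1, 2, 1, 2, 1, 0, 2, 1, 2, 0, 2, 1, 2, 0, 2, 1, 2, 0, 1, 2, 1], [0, 1, 0, 2, 1, 0, 2, 1, 2, 1, 0, 1, 2, 1, 2, 0, 1, 2, 0, 1, 0, 1, 2, 0, 1, 2, 0, 1, 0, 2, 1, 0, 1, 2, 0, 1, 0, 2, 1, 0, 2, 1], [0, 1, 0, 2, 1,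 2, 0, 2, 1, 2, 0, 2, 1, 2, 0, 2, 1, 2, 0, 1, 0, 1, 2, 0, 1, 2, 1, 2, 0, 1, 2, 0, 2, 1, 0, 2, 1, 2, 1, 0, 2, 1], [0, 1, 2, 0, 2, 1, 2, 0, 1, 0, 2, 0, 1, 0, 2, 1, 2, 0, 2, 1, 0, 1, 2, 1, 2, 0, 1, 2, 0, 1, 0, 2, 0, 1, 0, 2, 1, 0, 2, 1, 2, 1], [0, 1, 2, 1, 0, 2, 1, 2, 0, 1, 2, 0, 2, 1, 0, 2, 1, 2, 0, 1, 2, 1, 0, 2, 0, 1, 2, 0, 2, 1, 0, 2, 1, 2, 0, 1, 2, 0, 2, 1, 0, 2], [0, 1, 2, 1, 0, 2, 1, 2, 0, 2, 1, 2, 0, 2, 1, 2, 0, 1, 2, 1, 0, 2, 0, 1, 2, 0, 1, 2, 0, 2, 1, 0, 1, 2, 0, 2, 1, 0, 2, 1, 0, 2], [0, 1, 2, 1, 2, 0, 2, 1, 0, 2, 1, 2, 0, 1, 2, 0, 2, 1, 2, 1, 0, 2, 0, 1, 2, 1, 2, 0, 1, 0, 2, 1, 2, 0, 1, 0, 2, 1, 2,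 1, 0, 2], [0, 1, 2, 1, 2, 0, 2, 1, 2, 1, 0, 1, 2, 1, 2, 0, 2, 1, 2, 1, 0, 2, 0, 1, 2, 1, 2, 0, 1, 2, 1, 0, 1, 2, 1, 0, 2, 1, 2, 1, 0, 2], [0, 2, 0, 2, 0, 1, 2, 0, 2, 1, 2, 0, 2, 1, 2, 0, 2, 1, 0, 2, 0, 2, 0, 2, 0, 2, 1, 2, 0, 2, 1, 2, 0, 2, 1, 2, 0, 2, 1, 2, 0, 2], [0, 2, 0, 2, 1, 2, 0, 1, 0, 2, 1, 0, 1, 2, 0, 1, 0, 2, 1, 2, 0, 2, 0, 2, 1, 2, 1, 0, 2, 1, 2, 1, 0, 1, 2, 1, 2, 0, 1, 2, 1, 2], [0, 2, 0, 2, 1, 2, 1, 2, 0, 1, 2, 0, 2, 1, 0, 2, 1, 2, 1, 2, 0, 2, 0, 2, 1, 2, 1, 2, 0, 2, 1, 2, 0, 2, 1, 2, 0, 2, 1, 2, 1, 2], [1, 0, 1, 0, 2, 1, 2, 0, 1, 0, 2, 1, 2, 0, 1, 0, 2, 1, 2, 0, 1, 0, 1, 0, 1, 2, 1, 2, 0, 1, 0,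 2, 1, 2, 0, 1, 0, 2, 1, 2, 1, 0], [1, 0, 1, 0, 2, 1, 2, 0, 1, 2, 1, 0, 1, 2, 1, 0, 2, 1, 2, 0, 1, 0, 1, 0, 1, 2, 1, 2, 0, 1, 2, 1, 0, 1, 2, 1, 0, 2, 1, 2, 1, 0], [1, 0, 1, 2, 0, 1, 2, 0, 2, 1, 0, 1, 2, 0, 2, 1, 0, 2, 1, 0, 1, 0, 2, 1, 0, 2, 0, 1, 0, 2, 1, 0, 1, 2, 0, 1, 0, 2, 0, 1, 2, 0], [1, 0, 1, 2, 0, 2, 1, 2, 1, 2, 1, 0, 1, 2, 1, 2, 1, 2, 0, 2, 1, 0, 1, 0, 2, 1, 2, 0, 2, 0, 1, 2, 0, 2, 1, 0, 2, 0, 2, 1, 2, 0], [1, 0, 2, 0, 1, 2, 0, 2, 1, 2, 0, 2, 1, 2, 0, 2, 1, 0, 2, 0, 1, 2, 1, 0, 2, 1, 2, 0, 1, 2, 1, 0, 1, 2, 1, 0, 2, 1, 2, 0, 1, 2], [1, 0, 2, 1, 0, 2, 1, 2, 0, 2, 1, 2, 0, 2, 1, 2, 0, 1, 2, 0, 1, 2, 1,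 0, 2, 1, 0, 2, 1, 2, 1, 0, 1, 2, 1, 2, 0, 1, 2, 0, 1, 2], [1, 2, 0, 2, 1, 2, 0, 2, 1, 2, 0, 2, 1, 2, 0, 2, 1, 2, 0, 2, 1, 2, 1, 2, 0, 1, 2, 0, 2, 1, 2, 0, 2, 1, 2, 0, 2, 1, 0, 2, 1, 2], [1, 2, 1, 2, 1, 2, 0, 2, 1, 2, 0, 2, 1, 2, 0, 2, 1, 2, 1, 2, 1, 2, 1, 2, 1, 2, 1, 0, 2, 1, 2, 0, 2, 1, 2, 0, 1, 2, 1, 2, 1, 2], [2, 0, 1, 0, 2, 1, 2, 0, 1, 0, 2, 1, 2, 0, 1, 0, 2, 1, 2, 0, 1, 0, 2, 0, 2, 1, 0, 2, 1, 2, 0, 2, 1, 2, 0, 2, 1, 2, 0, 1, 2, 0], [2, 0, 1, 2, 0, 2, 1, 2, 0, 1, 2, 0, 2, 1, 0, 2, 1, 2, 0, 2, 1, 0, 2, 0, 2, 1, 2, 0, 2, 1, 0, 2, 1, 2, 0, 1, 2, 0, 2, 1, 2, 0], [2, 0, 2, 1, 2, 0, 1, 2, 1, 2, 1, 0, 1, 2, 1,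 2, 1, 0, 2, 1, 2, 0, 2, 1, 0, 2, 1, 2, 0, 1, 0, 2, 1, 2, 0, 1, 0, 2, 1, 2, 0, 1], [2, 1, 2, 0, 2, 1, 2, 0, 1, 2, 0, 2, 1, 0, 2, 1, 2, 0, 2, 1, 2, 1, 2, 1, 0, 2, 1, 2, 0, 1, 2, 0, 2, 1, 0, 2, 1, 2, 0, 1, 2, 1], [0, 1, 0, 2, 1, 2, 1, 2, 0, 1, 2, 0, 2, 1, 0, 2, 1, 2, 1, 2, 0, 1, 0, 1, 0, 2, 1, 2, 1, 2, 0, 1, 2, 0, 2, 1, 0, 2, 1, 2, 1, 2, 0, 1], [0, 1, 2, 0, 1, 2, 0, 2, 0, 1, 2, 0, 2, 1, 0, 2, 0, 2, 1, 0, 2, 1, 0, 1, 2, 0, 1, 2, 0, 2, 0, 1, 2, 0, 2, 1, 0, 2, 0, 2, 1, 0, 2, 1], [0, 1, 2, 0, 2, 1, 2, 0, 1, 2, 1, 0, 1, 2, 1, 0, 2, 1, 2, 0, 2, 1, 0, 1, 2, 0, 2, 1, 2, 0, 1, 2, 1, 0, 1, 2, 1, 0, 2, 1, 2, 0, 2, 1], [0,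 1, 2, 1, 0, 2, 1, 2, 0, 1, 0, 2, 0, 1, 0, 2, 1, 2, 0, 1, 2, 1, 0, 2, 1, 2, 0, 1, 0, 2, 0, 1, 0, 2, 0, 1, 0, 2, 0, 1, 0, 2, 1, 2], [0, 1, 2, 1, 2, 0, 1, 2, 1, 2, 1, 0, 1, 2, 1, 2, 1, 0, 2, 1, 2, 1, 0, 1, 2, 1, 2, 0, 1, 2, 1, 2, 1, 0, 1, 2, 1, 2, 1, 0, 2, 1, 2, 1], [1, 0, 1, 2, 0, 2, 1, 2, 0, 1, 2, 0, 2, 1, 0, 2, 1, 2, 0, 2, 1, 0, 1, 0, 1, 2, 1, 2, 1, 0, 2, 1, 2, 0, 2, 1, 2, 0, 1, 2, 1, 2, 1, 0], [1, 0, 2, 1, 2, 0, 1, 2, 1, 2, 1, 0, 1, 2, 1, 2, 1, 0, 2, 1, 2, 0, 1, 0, 2, 1, 2, 0, 1, 2, 1, 2, 1, 0, 1, 2, 1, 2, 1, 0, 2, 1, 2, 0], [1, 2, 0, 2, 1, 2, 0, 1, 0, 2, 1, 0, 1, 2, 0, 1, 0, 2, 1, 2, 0, 2, 1, 2, 0, 2, 1,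 2, 0, 1, 0, 2, 1, 0, 1, 2, 0, 1, 0, 2, 1, 2, 0, 2], [2, 0, 2, 1, 0, 2, 0, 1, 0, 2, 1, 0, 1, 2, 0, 1, 0, 2, 0, 1, 2, 0, 2, 0, 2, 1, 0, 2, 0, 1, 0, 2, 1, 0, 1, 2, 0, 1, 0, 2, 0, 1, 2, 0], [2, 1, 0, 2, 1, 2, 1, 2, 0, 1, 2, 1, 2, 1, 0, 2, 1, 2, 1, 2, 0, 1, 2, 1, 2, 0, 1, 2, 0, 1, 0, 2, 1, 0, 1, 2, 0, 1, 0, 2, 1, 0, 2, 1], [0, 1, 0, 2, 1, 0, 2, 1, 2, 0, 1, 2, 0, 2, 1, 0, 2, 1, 2, 0, 1, 2, 0, 1, 0, 1, 2, 0, 1, 2, 0, 2, 1, 0, 2, 1, 2, 0, 1, 2, 0, 2, 1, 0, 2, 1], [0, 1, 0, 2, 1, 2, 0, 2, 1, 0, 2, 1, 2, 0, 1, 2, 0, 2, 1, 2, 0, 1, 0, 1, 2, 0, 1, 2, 1, 2, 0, 1, 0, 2, 1, 2, 0, 1, 0, 2, 1, 2, 1, 0, 2, 1], [0, 1, 0, 2, 1,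 2, 1, 2, 0, 1, 0, 2, 1, 2, 0, 1, 0, 2, 1, 2, 1, 2, 0, 1, 0, 1, 0, 2, 1, 2, 1, 2, 0, 1, 2, 1, 2, 1, 0, 2, 1, 2, 1, 2, 0, 1], [0, 1, 0, 2, 1, 2, 1, 2, 0, 1, 2, 1, 0, 1, 2, 1, 0, 2, 1, 2, 1, 2, 0, 1, 0, 1, 2, 1, 2, 0, 1, 2, 0, 1, 2, 0, 2, 1, 0, 2, 1, 0, 2, 1, 2, 1], [0, 1, 2, 0, 1, 2, 0, 1, 2, 0, 2, 1, 0, 1, 2, 0, 2, 1, 0, 2, 1, 0, 2, 1, 0, 2, 1, 0, 2, 1, 0, 2, 1, 2, 1, 0, 1, 2, 1, 2, 0, 1, 2, 0, 1, 2], [0, 1, 2, 0, 1, 2, 1, 2, 0, 1, 2, 1, 0, 1, 2, 1, 0, 2, 1, 2, 1, 0, 2, 1, 0, 1, 2, 0, 2, 1, 0, 2, 1, 2, 1, 0, 1, 2, 1, 2, 0, 1, 2, 0, 2, 1], [0, 2, 0, 1, 0, 2, 1, 2, 0, 1, 2, 0, 2, 1, 0, 2, 1, 2, 0, 1, 0, 2, 0,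 2, 1, 2, 1, 2, 0, 1, 2, 0, 1, 2, 0, 2, 1, 0, 2, 1, 0, 2, 1, 2, 1, 2], [0, 2, 0, 2, 1, 2, 1, 2, 0, 1, 0, 2, 1, 2, 0, 1, 0, 2, 1, 2, 1, 2, 0, 2, 0, 2, 1, 2, 1, 2, 0, 2, 1, 0, 2, 1, 2, 0, 1, 2, 0, 2, 1, 2, 1, 2], [0, 2, 0, 2, 1, 2, 1, 2, 0, 1, 2, 1, 0, 1, 2, 1, 0, 2, 1, 2, 1, 2, 0, 2, 0, 2, 1, 2, 1, 2, 0, 2, 1, 2, 1, 0, 1, 2, 1, 2, 0, 2, 1, 2, 1, 2], [1, 0, 1, 2, 0, 1, 2, 0, 2, 1, 2, 0, 2, 1, 2, 0, 2, 1, 0, 2, 1, 0, 1, 0, 2, 1, 0, 2, 1, 2, 0, 1, 2, 1, 0, 1, 2, 1, 0, 2, 1, 2, 0, 1, 2, 0], [1, 0, 2, 1, 2, 0, 2, 1, 2, 0, 1, 0, 2, 0, 1, 0, 2, 1, 2, 0, 2, 1, 2, 0, 1, 2, 1, 2, 0, 2, 1, 2, 0, 1, 0, 2, 0, 1, 0, 2, 1,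 2, 0, 2, 1, 2], [1, 2, 1, 0, 2, 1, 2, 0, 2, 1, 2, 0, 2, 1, 2, 0, 2, 1, 2, 0, 1, 2, 1, 2, 1, 2, 0, 1, 2, 0, 2, 0, 1, 2, 0, 2, 1, 0, 2, 0, 2, 1, 0, 2, 1, 2], [1, 2, 1, 2, 0, 2, 1, 2, 1, 2, 1, 0, 1, 2, 1, 2, 1, 2, 0, 2, 1, 2, 1, 2, 1, 2, 1, 2, 0, 1, 2, 1, 2, 1, 0, 1, 2, 1, 2, 1, 0, 2, 1, 2, 1, 2], [1, 2, 1, 2, 1, 2, 0, 1, 2, 0, 1, 2, 0, 2, 1, 0, 2, 1, 0, 2, 1, 2, 1, 2, 1, 2, 1, 2, 1, 2, 0, 2, 1, 0, 2, 1, 2, 0, 1, 2, 0, 2, 1, 2, 1, 2], [1, 2, 1, 2, 1, 2, 0, 2, 1, 2, 1, 0, 1, 2, 1, 2, 0, 2, 1, 2, 1, 2, 1, 2, 1, 2, 1, 2, 1, 0, 2, 1, 2, 1, 0, 1, 2, 1, 2, 0, 1, 2, 1, 2, 1, 2], [2, 0, 2, 1, 0, 2, 1, 2, 0, 1, 2, 0, 2,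 1, 0, 2, 1, 2, 0, 1, 2, 0, 2, 1, 0, 2, 1, 2, 1, 2, 0, 1, 2, 1, 0, 1, 2, 1, 0, 2, 1, 2, 1, 2, 0, 1], [2, 0, 2, 1, 2, 0, 2, 1, 2, 1, 2, 1, 0, 1, 2, 1, 2, 1, 2, 0, 2, 1, 2, 0, 2, 1, 0, 2, 1, 2, 0, 2, 1, 0, 2, 1, 2, 0, 1, 2, 0, 2, 1, 2, 0, 1], [0, 1, 0, 2, 1, 0, 2, 1, 2, 0, 1, 0, 2, 0, 1, 0, 2, 1, 2, 0, 1, 2, 0, 1, 0, 1, 2, 1, 2, 0, 1, 0, 2, 0, 1, 0, 2, 0, 1, 0, 2, 0, 1, 0, 2, 1, 2, 1], [0, 2, 1, 0, 2, 1, 2, 1, 2, 0, 1, 2, 0, 2, 1, 0, 2, 1, 2, 1, 2, 0, 1, 2, 0, 2, 1, 0, 2, 1, 2, 1, 2, 0, 1, 2, 0, 2, 1, 0, 2, 1, 2, 1, 2, 0, 1, 2], [0, 2, 1, 2, 0, 1, 2, 0, 2, 0, 1, 2, 0, 2, 1, 0, 2, 0, 2, 1, 0, 2, 1, 2, 0, 2, 1,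 2, 0, 1, 2, 0, 2, 0, 1, 2, 0, 2, 1, 0, 2, 0, 2, 1, 0, 2, 1, 2], [0, 2, 1, 2, 0, 1, 2, 0, 2, 1, 0, 2, 1, 2, 0, 1, 2, 0, 2, 1, 0, 2, 1, 2, 0, 2, 1, 2, 0, 1, 2, 1, 2, 0, 1, 2, 0, 2, 1, 0, 2, 1, 2, 1, 0, 2, 1, 2], [0, 2, 1, 2, 0, 2, 1, 2, 0, 1, 2, 1, 0, 1, 2, 1, 0, 2, 1, 2, 0, 2, 1, 2, 0, 2, 1, 2, 0, 2, 1, 2, 0, 1, 2, 1, 0, 1, 2, 1, 0, 2, 1, 2, 0, 2, 1, 2], [0, 2, 1, 2, 1, 0, 2, 1, 2, 0, 1, 0, 2, 0, 1, 0, 2, 1, 2, 0, 1, 2, 1, 2, 0, 2, 1, 2, 1, 0, 2, 1, 2, 0, 1, 0, 2, 0, 1, 0, 2, 1, 2, 0, 1, 2, 1, 2], [0, 2, 1, 2, 1, 2, 0, 1, 2, 1, 2, 1, 0, 1, 2, 1, 2, 1, 0, 2, 1, 2, 1, 2, 0, 2, 1, 2, 1, 2, 0, 1, 2, 1, 2, 1, 0,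 1, 2, 1, 2, 1, 0, 2, 1, 2, 1, 2], [0, 2, 1, 2, 1, 2, 1, 0, 2, 1, 2, 1, 0, 1, 2, 1, 2, 0, 1, 2, 1, 2, 1, 2, 0, 2, 1, 2, 1, 2, 1, 0, 2, 1, 2, 1, 0, 1, 2, 1, 2, 0, 1, 2, 1, 2, 1, 2], [1, 0, 2, 1, 0, 2, 1, 2, 0, 2, 1, 2, 0, 2, 1, 2, 0, 2, 1, 2, 0, 1, 2, 0, 1, 0, 2, 1, 0, 2, 1, 2, 0, 2, 1, 2, 0, 2, 1, 2, 0, 2, 1, 2, 0, 1, 2, 0], [1, 0, 2, 1, 2, 0, 2, 1, 2, 1, 2, 1, 0, 1, 2, 1, 2, 1, 2, 0, 2, 1, 2, 0, 1, 0, 2, 1, 2, 0, 2, 1, 2, 1, 2, 1, 0, 1, 2, 1, 2, 1, 2, 0, 2, 1, 2, 0], [1, 2, 0, 1, 0, 2, 1, 2, 0, 1, 2, 1, 0, 1, 2, 1, 0, 2, 1, 2, 0, 1, 0, 2, 1, 2, 1, 2, 0, 1, 2, 1, 2, 0, 1, 2, 0, 2, 1, 0, 2, 1, 2, 1, 0, 2, 1,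 2], [1, 2, 0, 1, 2, 1, 2, 1, 0, 2, 1, 2, 0, 2, 1, 2, 0, 1, 2, 1, 2, 1, 0, 2, 1, 2, 0, 1, 2, 1, 2, 1, 0, 2, 1, 2, 0, 2, 1, 2, 0, 1, 2, 1, 2, 1, 0, 2], [1, 2, 0, 2, 1, 2, 1, 2, 0, 1, 2, 1, 0, 1, 2, 1, 0, 2, 1, 2, 1, 2, 0, 2, 1, 2, 0, 2, 1, 2, 1, 2, 0, 1, 2, 1, 0, 1, 2, 1, 0, 2, 1, 2, 1, 2, 0, 2], [2, 0, 2, 1, 0, 2, 1, 2, 0, 2, 1, 2, 0, 2, 1, 2, 0, 2, 1, 2, 0, 1, 2, 0, 2, 1, 0, 2, 1, 0, 2, 1, 2, 0, 1, 2, 0, 2, 1, 0, 2, 1, 2, 0, 1, 2, 0, 1], [2, 0, 2, 1, 2, 0, 1, 2, 0, 2, 1, 2, 0, 2, 1, 2, 0, 2, 1, 0, 2, 1, 2, 0, 2, 1, 2, 0, 2, 1, 2, 1, 2, 0, 1, 2, 0, 2, 1, 0, 2, 1, 2, 1, 2, 0, 2, 1], [2, 1, 0, 2, 1, 0, 2, 1, 2,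 0, 1, 0, 2, 0, 1, 0, 2, 1, 2, 0, 1, 2, 0, 1, 2, 1, 0, 2, 1, 0, 2, 1, 2, 0, 1, 0, 2, 0, 1, 0, 2, 1, 2, 0, 1, 2, 0, 1], [2, 1, 2, 0, 1, 0, 2, 1, 2, 0, 1, 2, 0, 2, 1, 0, 2, 1, 2, 0, 1, 0, 2, 1, 2, 1, 2, 0, 1, 2, 1, 2, 0, 1, 2, 1, 0, 1, 2, 1, 0, 2, 1, 2, 1, 0, 2, 1], [0, 1, 2, 0, 1, 2, 0, 2, 1, 2, 1, 2, 1, 0, 1, 2, 1, 2, 1, 2, 0, 2, 1, 0, 2, 1, 0, 2, 0, 1, 2, 0, 1, 2, 0, 2, 1, 2, 0, 2, 1, 2, 0, 2, 1, 0, 2, 1, 0, 2], [0, 1, 2, 0, 2, 0, 1, 2, 0, 2, 1, 2, 0, 2, 1, 2, 0, 2, 1, 0, 2, 0, 2, 1, 0, 2, 0, 2, 1, 0, 2, 1, 2, 0, 1, 2, 1, 0, 1, 2, 1, 0, 2, 1, 2, 0, 1, 2, 0, 2], [0, 1, 2, 1, 2, 0, 2, 1, 0, 2, 1, 2, 1, 0, 1,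 2, 1, 2, 0, 1, 2, 0, 2, 1, 2, 1, 0, 2, 0, 1, 2, 0, 2, 1, 2, 1, 2, 1, 0, 1, 2, 1, 2, 1, 2, 0, 2, 1, 0, 2], [0, 1, 2, 1, 2, 0, 2, 1, 2, 0, 1, 2, 1, 0, 1, 2, 1, 0, 2, 1, 2, 0, 2, 1, 2, 1, 0, 2, 0, 1, 2, 1, 2, 1, 0, 2, 1, 2, 0, 2, 1, 2, 0, 1, 2, 1, 2, 1, 0, 2], [0, 2, 0, 2, 0, 1, 0, 2, 1, 2, 0, 1, 0, 2, 0, 1, 0, 2, 1, 2, 0, 1, 0, 2, 0, 2, 0, 2, 0, 2, 1, 0, 2, 1, 2, 0, 1, 0, 2, 0, 1, 0, 2, 1, 2, 0, 1, 2, 0, 2], [1, 0, 1, 2, 0, 1, 0, 2, 1, 2, 0, 1, 2, 0, 2, 1, 0, 2, 1, 2, 0, 1, 0, 2, 1, 0, 1, 2, 0, 2, 1, 2, 1, 2, 0, 1, 0, 2, 1, 2, 0, 1, 0, 2, 1, 2, 1, 2, 0, 2], [1, 0, 1, 2, 0, 2, 1, 2, 1, 2, 0, 1, 2, 0, 2, 1, 0,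 2, 1, 2, 1, 2, 0, 2, 1, 0, 1, 0, 2, 1, 2, 1, 2, 1, 0, 2, 1, 2, 0, 2, 1, 2, 0, 1, 2, 1, 2, 1, 2, 0], [1, 0, 2, 1, 2, 0, 1, 2, 0, 2, 1, 2, 0, 2, 1, 2, 0, 2, 1, 0, 2, 1, 2, 0, 1, 2, 0, 2, 1, 0, 2, 1, 2, 0, 1, 2, 1, 0, 1, 2, 1, 0, 2, 1, 2, 0, 1, 2, 0, 2], [1, 0, 2, 1, 2, 0, 2, 1, 0, 2, 1, 2, 1, 0, 1, 2, 1, 2, 0, 1, 2, 0, 2, 1, 2, 0, 1, 2, 0, 1, 2, 0, 1, 2, 0, 2, 1, 2, 0, 2, 1, 2, 0, 2, 1, 0, 2, 1, 0, 2], [1, 2, 0, 2, 1, 2, 1, 2, 1, 0, 2, 1, 2, 0, 2, 1, 2, 0, 1, 2, 1, 2, 1, 2, 0, 2, 1, 2, 1, 2, 0, 1, 2, 0, 2, 1, 0, 2, 1, 2, 0, 1, 2, 0, 2, 1, 0, 2, 1, 2], [1, 2, 1, 2, 1, 2, 0, 1, 0, 2, 0, 1, 0, 2, 0, 1, 0, 2, 0,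 1, 0, 2, 1, 2, 1, 2, 1, 2, 1, 2, 1, 2, 0, 1, 2, 0, 1, 0, 2, 0, 1, 0, 2, 1, 0, 2, 1, 2, 1, 2], [2, 0, 2, 0, 1, 0, 2, 1, 2, 0, 1, 2, 1, 0, 1, 2, 1, 0, 2, 1, 2, 0, 1, 0, 2, 0, 2, 1, 2, 0, 2, 0, 1, 2, 0, 2, 1, 2, 0, 2, 1, 2, 0, 2, 1, 0, 2, 0, 2, 1], [2, 1, 2, 0, 1, 2, 1, 2, 0, 1, 0, 2, 1, 2, 0, 1, 0, 2, 1, 2, 1, 0, 2, 1, 2, 1, 2, 1, 2, 0, 2, 1, 0, 2, 1, 2, 1, 0, 1, 2, 1, 2, 0, 1, 2, 0, 2, 1, 2, 1], [0, 2, 1, 0, 2, 1, 2, 1, 2, 0, 1, 0, 2, 1, 2, 0, 1, 0, 2, 1, 2, 1, 2, 0, 1, 2, 0, 2, 1, 2, 0, 1, 2, 0, 1, 2, 0, 2, 1, 0, 1, 2, 0, 2, 1, 0, 2, 1, 0, 2, 1, 2], [1, 2, 1, 0, 2, 1, 2, 1, 2, 0, 1, 0, 2, 1, 2, 0, 1, 0, 2,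 1, 2, 1, 2, 0, 1, 2, 1, 2, 1, 0, 2, 1, 2, 1, 2, 0, 1, 0, 2, 1, 2, 0, 1, 0, 2, 1, 2, 1, 2, 0, 1, 2], [2, 0, 1, 2, 0, 1, 0, 2, 1, 2, 0, 1, 0, 2, 0, 1, 0, 2, 1, 2, 0, 1, 0, 2, 1, 0, 2, 0, 1, 2, 0, 1, 0, 2, 1, 2, 0, 1, 0, 2, 0, 1, 0, 2, 1, 2, 0, 1, 0, 2, 1, 0], [2, 0, 1, 2, 0, 2, 1, 2, 1, 2, 0, 1, 2, 0, 2, 1, 0, 2, 1, 2, 1, 2, 0, 2, 1, 0, 2, 1, 2, 0, 1, 2, 0, 2, 1, 2, 1, 2, 1, 0, 1, 2, 1, 2, 1, 2, 0, 2, 1, 0, 2, 1], [2, 0, 2, 1, 2, 0, 2, 1, 0, 2, 1, 2, 1, 0, 1, 2, 1, 2, 0, 1, 2, 0, 2, 1, 2, 0, 2, 1, 2, 1, 0, 2, 1, 2, 1, 2, 0, 1, 2, 0, 2, 1, 0, 2, 1, 2, 1, 2, 0, 1, 2, 1], [0, 1, 0, 2, 0, 1, 0, 2, 1, 2, 0, 1, 2,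 1, 0, 1, 2, 1, 0, 2, 1, 2, 0, 1, 0, 2, 0, 1, 0, 2, 0, 2, 1, 2, 1, 2, 1, 0, 2, 1, 2, 0, 2, 1, 2, 0, 1, 2, 1, 2, 1, 2, 0, 2], [0, 1, 2, 1, 0, 2, 1, 2, 1, 2, 0, 1, 2, 0, 2, 1, 0, 2, 1, 2, 1, 2, 0, 1, 2, 1, 0, 2, 0, 1, 2, 0, 1, 0, 2, 1, 2, 0, 1, 2, 0, 2, 1, 0, 2, 1, 2, 0, 1, 0, 2, 1, 0, 2], [0, 2, 0, 2, 1, 2, 0, 2, 1, 2, 0, 1, 0, 2, 0, 1, 0, 2, 1, 2, 0, 2, 1, 2, 0, 2, 0, 2, 0, 2, 1, 2, 1, 2, 0, 1, 2, 0, 1, 0, 2, 0, 1, 0, 2, 1, 0, 2, 1, 2, 1, 2, 0, 2], [1, 0, 1, 0, 2, 0, 1, 0, 2, 1, 2, 0, 1, 0, 2, 0, 1, 0, 2, 1, 2, 0, 1, 0, 2, 0, 1, 0, 1, 0, 1, 2, 0, 1, 0, 2, 1, 2, 0, 1, 0, 2, 0, 1, 0, 2, 1, 2, 0, 1, 0, 2, 1, 0],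 [1, 0, 1, 2, 0, 2, 1, 0, 2, 1, 2, 0, 1, 0, 2, 0, 1, 0, 2, 1, 2, 0, 1, 2, 0, 2, 1, 0, 1, 2, 0, 2, 1, 2, 0, 2, 1, 2, 0, 1, 0, 2, 0, 1, 0, 2, 1, 2, 0, 2, 1, 2, 0, 2], [1, 0, 2, 1, 2, 0, 1, 0, 2, 1, 2, 0, 1, 0, 2, 0, 1, 0, 2, 1, 2, 0, 1, 0, 2, 1, 2, 0, 1, 2, 1, 2, 0, 1, 0, 2, 1, 2, 0, 1, 0, 2, 0, 1, 0, 2, 1, 2, 0, 1, 0, 2, 1, 2], [1, 2, 0, 2, 0, 1, 0, 2, 1, 2, 0, 1, 0, 2, 0, 1, 0, 2, 1, 2, 0, 1, 0, 2, 0, 2, 1, 2, 0, 2, 1, 2, 1, 2, 0, 1, 2, 0, 1, 0, 2, 0, 1, 0, 2, 1, 0, 2, 1, 2, 1, 2, 0, 2], [2, 0, 1, 0, 2, 0, 1, 0, 2, 1, 2, 0, 1, 0, 2, 0, 1, 0, 2, 1, 2, 0, 1, 0, 2, 0, 1, 0, 2, 1, 2, 0, 2, 1, 0, 2, 1, 2, 0, 1, 0,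 2, 0, 1, 0, 2, 1, 2, 0, 1, 2, 0, 2, 1], [2, 0, 1, 2, 0, 2, 1, 0, 2, 1, 2, 0, 1, 0, 2, 0, 1, 0, 2, 1, 2, 0, 1, 2, 0, 2, 1, 0, 2, 1, 2, 1, 2, 1, 0, 2, 1, 2, 0, 1, 0, 2, 0, 1, 0, 2, 1, 2, 0, 1, 2, 1, 2, 1], [2, 1, 0, 2, 0, 1, 0, 2, 1, 2, 0, 1, 0, 2, 0, 1, 0, 2, 1, 2, 0, 1, 0, 2, 0, 1, 2, 1, 0, 2, 1, 2, 1, 2, 0, 1, 2, 0, 1, 0, 2, 0, 1, 0, 2, 1, 0, 2, 1, 2, 1, 2, 0, 1], [2, 1, 0, 2, 0, 1, 0, 2, 1, 2, 0, 1, 2, 1, 0, 1, 2, 1, 0, 2, 1, 2, 0, 1, 0, 2, 0, 1, 2, 1, 2, 1, 2, 0, 2, 1, 2, 0, 1, 2, 1, 0, 1, 2, 1, 0, 2, 1, 2, 0, 2, 1, 2, 1], [0, 1, 2, 1, 2, 0, 1, 2, 0, 1, 2, 0, 2, 1, 0, 1, 2, 0, 2, 1, 0, 2, 1, 0, 2, 1, 2,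 1, 0, 1, 2, 1, 2, 0, 1, 2, 0, 1, 2, 0, 2, 1, 0, 1, 2, 0, 2, 1, 0, 2, 1, 0, 2, 1, 2, 1], [1, 0, 1, 2, 1, 2, 1, 0, 2, 1, 2, 0, 1, 0, 2, 0, 1, 0, 2, 1, 2, 0, 1, 2, 1, 2, 1, 0, 1, 0, 1, 2, 1, 2, 1, 0, 2, 1, 2, 0, 1, 0, 2, 0, 1, 0, 2, 1, 2, 0, 1, 2, 1, 2, 1, 0], [1, 2, 0, 1, 2, 0, 1, 0, 2, 1, 2, 0, 1, 2, 0, 2, 1, 0, 2, 1, 2, 0, 1, 0, 2, 1, 0, 2, 1, 2, 0, 1, 2, 0, 1, 0, 2, 1, 2, 0, 1, 2, 0, 2, 1, 0, 2, 1, 2, 0, 1, 0, 2, 1, 0, 2], [2, 0, 2, 1, 2, 0, 1, 0, 2, 1, 2, 0, 1, 0, 2, 0, 1, 0, 2, 1, 2, 0, 1, 0, 2, 1, 2, 0, 2, 0, 2, 1, 2, 0, 1, 0, 2, 1, 2, 0, 1, 0, 2, 0, 1, 0, 2, 1, 2, 0, 1, 0, 2, 1, 2, 0], [2, 0, 2, 1, 2,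 1, 2, 0, 1, 0, 2, 0, 1, 0, 2, 0, 1, 0, 2, 0, 1, 0, 2, 1, 2, 1, 2, 0, 2, 0, 2, 1, 2, 1, 2, 0, 1, 0, 2, 0, 1, 0, 2, 0, 1, 0, 2, 0, 1, 0, 2, 1, 2, 1, 2, 0], [2, 1, 2, 1, 2, 0, 1, 2, 0, 1, 2, 0, 2, 1, 0, 1, 2, 0, 2, 1, 0, 2, 1, 0, 2, 1, 2, 1, 2, 1, 2, 1, 2, 0, 1, 2, 0, 1, 2, 0, 2, 1, 0, 1, 2, 0, 2, 1, 0, 2, 1, 0, 2, 1, 2, 1], [0, 1, 0, 2, 1, 2, 1, 2, 0, 1, 0, 2, 0, 1, 0, 2, 0, 1, 0, 2, 0, 1, 0, 2, 1, 2, 1, 2, 0, 1, 0, 1, 0, 2, 1, 2, 1, 2, 0, 1, 2, 0, 1, 0, 2, 0, 1, 0, 2, 1, 0, 2, 1, 2, 1, 2, 0, 1], [2, 0, 1, 2, 1, 2, 1, 0, 2, 1, 2, 0, 1, 0, 2, 0, 1, 0, 2, 1, 2, 0, 1, 2, 1, 2, 1, 0, 2, 1, 0, 2, 1, 2, 1, 2, 0, 1,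 0, 2, 0, 1, 0, 2, 0, 1, 0, 2, 0, 1, 0, 2, 1, 2, 1, 2, 0, 1]]

end CfsgLib.J3Local.Cover.T1
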